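import Cfsg.Agent.H383.Cov.PlusC
import Cfsg.Prelude.Def_GeometricClasses
import Cfsg.Agent.S2119
import Cfsg.Agent.S0813
import Cfsg.Agent.H955.QClass
import Cfsg.Agent.S5871
import Cfsg.Agent.S5874
import Cfsg.Agent.H217.Odm.Real_m3
import Cfsg.Agent.H278.Cov.Defs
import Cfsg.Agent.FastGrp
import Cfsg.Agent.Prune
set_option linter.all false

section
prune_inst 0x7ffdfcfbbbf9b9dfffff7e7ff69ccffdf9bd7fffa4dff9fbffe061ffafdfeb0a89c5fbad6beb51fe1eb6c21418e87b43ff7eeeffea6bd87ffffd1ff45ffbee1fffffbd0851978c340f3c6ffff3f0f78e7f3fffffffffffffffffffffffffffbeffbfffffffff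

-- part: H989/Cov/Twelve
section
prune_inst 0x4004400000000000000000000202000000000000000000000000009000000000000000000000000000000000000000000004000000000000000000000000000000000000000000000000000000000000000000000000000000000000000000000000
set_option linter.all false
open scoped Cfsg.Agent.FastGrp

-- part: H989/Cov/Tools
section
/-!
# S2499, `Ω^±_12(2)`: tools (helper989)

* `inc_of_max` : incompatibility of two classes of `Ω(Q)` from the maximal subgroups;
* `dec_kill`, `fld_kill` : elements of prime order and stabilisers of decompositions, normalisers of fields;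
* `exists_el` : elements of `Ω(Q)` from isometries of a model, with the isometry;
* `Pl`, `Mi` : the invariant planes have, resp. have no, non-zero singular vectors; `red_two`.
-/

set_option autoImplicit false
set_option linter.unusedSectionVars false
set_option linter.style.haveILetI false

namespace Cfsg.Agent.H989.Cov

open Module Cfsg Cfsg.Geo QuadraticMap
open Cfsg.Agent.LieClassical.OrthCore Cfsg.Agent.LieClassical.OrthForms
open Cfsg.Agent.H182.Sign
open Cfsg.Agent.H278.Cov (Red Av Inc NoTwo inc_of_coatom not_av)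
open Cfsg.Agent.H383.Cov
open scoped MatrixGroups Matrix

variable {ι : Type} [Fintype ι] [DecidableEq ι] {F : Type} [Field F]

/-! ### The frame -/

section frame

variable [Fintype F]

theorem comap_map_emb {Q : (ι → F) → F} {N : Subgroup (GL ι F)} (hN : N ≤ omegaGL Q) :
    (N.comap (emb Q)).map (emb Q) = N := by
  rw [Subgroup.map_comap_eq, range_emb]
  exact inf_eq_right.2 hN

/-- coatoms of `Ω(Q)` are maximal subgroups -/
theorem isMaximalIn_map {Q : (ι → F) → F} {M : Subgroup (Omega F Q)} (hM : IsCoatom M) :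
    IsMaximalIn (omegaGL Q) (M.map (emb Q)) := by
  refine ⟨lt_of_le_of_ne (map_emb_le M) (map_emb_ne hM.1), fun N h1 h2 => ?_⟩
  have h3 : M ≤ N.comap (emb Q) := Subgroup.map_le_iff_le_comap.1 h1
  rcases eq_or_lt_of_le h3 with h4 | h4
  · left
    rw [h4, comap_map_emb h2]
  · right
    have h5 := hM.2 _ h4
    have h6 := comap_map_emb h2
    rw [h5, ← MonoidHom.range_eq_map, range_emb] at h6
    exact h6.symm

/-- two classes of `Ω(Q)` are incompatible -/
theorem inc_of_max {Q : (ι → F) → F} {A B : Omega F Q}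
    (h : ∀ H : Subgroup (GL ι F), IsMaximalIn (omegaGL Q) H → ∀ g ∈ omegaGL Q, ∀ g' ∈ omegaGL Q,
      g * emb Q A * g⁻¹ ∈ H → g' * emb Q B * g'⁻¹ ∈ H → False) : Inc A B := by
  have hfin : Finite (Omega F Q) := Finite.of_injective _ (emb_injective Q)
  apply inc_of_coatom
  intro M hM
  by_contra hcon
  rw [not_or] at hcon
  obtain ⟨g, hg⟩ := not_av hcon.1
  obtain ⟨g', hg'⟩ := not_av hcon.2
  have hmem : ∀ g : Omega F Q, emb Q g ∈ omegaGL Q := by
    intro g
    rw [← range_emb]
    exact ⟨g, rfl⟩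
  refine h (M.map (emb Q)) (isMaximalIn_map hM) (emb Q g) (hmem g) (emb Q g') (hmem g') ⟨_, hg, ?_⟩ ⟨_, hg', ?_⟩
  · rw [map_mul, map_mul, map_inv]
  · rw [map_mul, map_mul, map_inv]

end frame

/-! ### Decompositions -/

section dec

theorem D_injective {t m : ℕ} {D : Fin t → Submodule F (ι → F)} (hD : IsMDecomposition m D) : Function.Injective D := by
  intro i j hij
  by_contra hne
  have h1 := hD.indep.pairwiseDisjoint hne
  change Disjoint (D i) (D j) at h1
  rw [hij, disjoint_self] at h1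
  have h2 := hD.finrank_eq j
  rw [h1, finrank_bot] at h2
  exact hD.pos.ne h2

theorem exists_permHom {t m : ℕ} {D : Fin t → Submodule F (ι → F)} (hD : IsMDecomposition m D) :
    ∃ f : decompositionStabilizer D →* Equiv.Perm (Fin t), ∀ (g : decompositionStabilizer D) (i : Fin t),
      (D i).map (Matrix.toLin' ((g : GL ι F) : Matrix ι ι F)) = D (f g i) := by
  choose f hf using fun g : decompositionStabilizer D => g.2
  refine ⟨MonoidHom.mk' f (fun g h => ?_), hf⟩
  ext i : 1
  apply D_injective hD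
  rw [← hf, Equiv.Perm.mul_apply, ← hf g, ← hf h, Subgroup.coe_mul, Units.val_mul, Matrix.toLin'_mul,
    Submodule.map_comp]

/-- an element of prime order `> t` stabilising a decomposition with `t` members fixes the members -/
theorem dec_fix {t m : ℕ} {D : Fin t → Submodule F (ι → F)} (hD : IsMDecomposition m D) {x : GL ι F}
    (hx : x ∈ decompositionStabilizer D) (hp : (orderOf x).Prime) (ht : t < orderOf x) (i : Fin t) :
    ∀ w ∈ D i, Matrix.toLin' (x : Matrix ι ι F) w ∈ D i := by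
  obtain ⟨f, hf⟩ := exists_permHom hD
  have h1 : (f ⟨x, hx⟩) ^ orderOf x = 1 := by
    rw [← map_pow]
    have h2 : (⟨x, hx⟩ : decompositionStabilizer D) ^ orderOf x = 1 := Subtype.ext (pow_orderOf_eq_one x)
    rw [h2, map_one]
  have h2 : orderOf (f ⟨x, hx⟩) ∣ orderOf x := orderOf_dvd_of_pow_eq_one h1
  have h3 : f ⟨x, hx⟩ = 1 := by
    rcases (Nat.dvd_prime hp).1 h2 with h | h
    · exact orderOf_eq_one_iff.1 h
    · exfalso
      have h4 : orderOf (f ⟨x, hx⟩) ∣ Nat.card (Equiv.Perm (Fin t)) := orderOf_dvd_natCard _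
      rw [h, Nat.card_perm, Nat.card_fin, hp.dvd_factorial] at h4
      omega
  intro w hw
  have h4 := hf ⟨x, hx⟩ i
  rw [h3, Equiv.Perm.one_apply] at h4
  rw [← h4]
  exact ⟨w, hw, rfl⟩

/-- an element of prime order with a large irreducible block stabilises no decomposition with few small members -/
theorem dec_kill [Finite F] {t m k : ℕ} {D : Fin t → Submodule F (ι → F)} (hD : IsMDecomposition m D) {x : GL ι F}
    (hx : x ∈ decompositionStabilizer D) (hp : (orderOf x).Prime) (ht : t < orderOf x) (hb : Blk k x)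
    (hm : m < k) : False := by
  have h1 : ∀ i, ∀ w ∈ D i, Matrix.toLin' (x : Matrix ι ι F) w = w := fun i w hw =>
    fix_of_lt (toLin_pow_orderOf x) hb.copq hb.cop (dec_fix hD hx hp ht i) (by rw [hD.finrank_eq]; exact hm) hw
  have h2 : iSup D ≤ LinearMap.ker (Matrix.toLin' (x : Matrix ι ι F) - 1) := by
    apply iSup_le
    intro i w hw
    rw [LinearMap.mem_ker]
    exact sub_eq_zero.2 (h1 i w hw)
  rw [hD.iSup_eq_top, top_le_iff, LinearMap.ker_eq_top] at h2
  have h3 := hb.rk
  rw [h2, LinearMap.range_zero, finrank_bot] at h3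
  omega

end dec

/-! ### Fields -/

/-- an element of order prime to `r` normalising a field of degree `r` -/
theorem fld_kill [Finite F] [Nonempty ι] {r : ℕ} {E : Subalgebra F (Matrix ι ι F)} (hE : IsFieldSubalgebra r E)
    {x : GL ι F} (hx : x ∈ subalgebraNormalizer E) (hco : (orderOf x).Coprime r)
    (hk : ¬ r ∣ finrank F (LinearMap.range (Matrix.toLin' (x : Matrix ι ι F) - 1))) : False := by
  apply hk
  have h1 : Matrix.toLin' (x : Matrix ι ι F) - 1 = Matrix.toLin' ((x : Matrix ι ι F) - 1) := by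
    rw [map_sub, Matrix.toLin'_one]
    rfl
  rw [h1]
  apply dvd_range hE
  intro e he
  rw [sub_mul, mul_sub, comm_of_coprime hE hx hco he, one_mul, mul_one]

/-! ### Elements from models -/

section el

variable [Finite F]

/-- elements of `omegaGL Q` from isometries of odd order of another model -/
theorem exists_el {Q : QuadraticForm F (ι → F)} {n : ℕ} {ε : ℤ} (hQ : Sg Q n ε) (h5 : 5 ≤ Fintype.card ι)
    {V : Type} [AddCommGroup V] [Module F V] [Finite V] {Q' : QuadraticForm F V} (hQ' : Sg Q' n ε)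
    {x : Module.End F V} (hx : ∀ v, Q' (x v) = Q' v) {M : ℕ} (hM : Odd M) (hxM : x ^ M = 1) :
    ∃ X : GL ι F, X ∈ omegaGL ⇑Q ∧ ∃ e : (ι → F) ≃ₗ[F] V, (∀ v, e ((X : Matrix ι ι F) *ᵥ v) = x (e v)) ∧
      ∀ v, Q' (e v) = Q v := by
  obtain ⟨e, he⟩ := Sg.exists_equiv hQ hQ'
  have hM0 : M ≠ 0 := fun h => by rw [h] at hM; exact absurd hM (by decide)
  let φ : Module.End F V ≃ₐ[F] Matrix ι ι F := (e.symm.conjAlgEquiv F).trans LinearMap.toMatrixAlgEquiv'
  have hφ : ∀ (S : Module.End F V) (v : ι → F), (φ S).mulVec v = e.symm (S (e v)) := by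
    intro S v
    show (LinearMap.toMatrix' (e.symm.conj S)).mulVec v = _
    rw [LinearMap.toMatrix'_mulVec]
    rfl
  have hunit : IsUnit (φ x) := by
    apply IsUnit.of_pow_eq_one (n := M) _ hM0
    rw [← map_pow, hxM, map_one]
  obtain ⟨X, hX⟩ := hunit
  have hsim : ∀ v, e ((X : Matrix ι ι F) *ᵥ v) = x (e v) := by
    intro v
    rw [hX, hφ, e.apply_symm_apply]
  have hmem : X ∈ isometryGroup F ⇑Q := by
    rw [Cfsg.Agent.LieClassical.OrthFinite.mem_isometryGroup_iff]
    intro v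
    rw [← he, hsim, hx, he]
  refine ⟨X, mem_omegaGL_of_odd hQ.nondeg h5 hmem hM ?_, e, hsim, he⟩
  exact (Sim.pow_eq_one_iff ⟨e, hsim⟩ M).2 hxM

end el

/-! ### The types of the invariant planes -/

/-- every invariant plane contains a non-zero singular vector -/
def Pl (Q : (ι → F) → F) (x : GL ι F) : Prop :=
  ∀ W : Submodule F (ι → F), (∀ w ∈ W, (x : Matrix ι ι F) *ᵥ w ∈ W) → finrank F W = 2 → ∃ w ∈ W, w ≠ 0 ∧ Q w = 0

/-- no invariant plane contains a non-zero singular vector -/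
def Mi (Q : (ι → F) → F) (x : GL ι F) : Prop :=
  ∀ W : Submodule F (ι → F), (∀ w ∈ W, (x : Matrix ι ι F) *ᵥ w ∈ W) → finrank F W = 2 → ∀ w ∈ W, Q w = 0 → w = 0

theorem comap_inv {W : Submodule F (ι → F)} {x g : GL ι F}
    (hW : ∀ w ∈ W, ((g * x * g⁻¹ : GL ι F) : Matrix ι ι F) *ᵥ w ∈ W) :
    ∀ w ∈ W.comap (eqv g : (ι → F) →ₗ[F] (ι → F)), (x : Matrix ι ι F) *ᵥ w ∈ W.comap (eqv g : (ι → F) →ₗ[F] (ι → F)) := by
  intro w hw
  rw [Submodule.mem_comap] at hw ⊢
  change (g : Matrix ι ι F) *ᵥ w ∈ W at hw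
  change (g : Matrix ι ι F) *ᵥ ((x : Matrix ι ι F) *ᵥ w) ∈ W
  have h2 := hW _ hw
  rw [Units.val_mul, Units.val_mul, Matrix.mulVec_mulVec, mul_assoc, ← Units.val_mul g⁻¹ g, inv_mul_cancel,
    Units.val_one, mul_one, ← Matrix.mulVec_mulVec] at h2
  exact h2

theorem finrank_comap_eqv (g : GL ι F) (W : Submodule F (ι → F)) :
    finrank F (W.comap (eqv g : (ι → F) →ₗ[F] (ι → F))) = finrank F W := by
  rw [Submodule.comap_equiv_eq_map_symm]
  exact LinearEquiv.finrank_map_eq (eqv g).symm W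

theorem Pl.conj {Q : (ι → F) → F} {x : GL ι F} (h : Pl Q x) {g : GL ι F} (hg : g ∈ isometryGroup F Q) :
    Pl Q (g * x * g⁻¹) := by
  intro W hW h2
  obtain ⟨w, hw, hw0, hq⟩ := h _ (comap_inv hW) (by rw [finrank_comap_eqv, h2])
  refine ⟨(g : Matrix ι ι F) *ᵥ w, hw, fun h0 => hw0 ?_, ?_⟩
  · have h3 : eqv g w = 0 := h0
    exact (LinearEquiv.map_eq_zero_iff _).1 h3
  · rw [← hq]
    exact hg w w

theorem Mi.conj {Q : (ι → F) → F} {x : GL ι F} (h : Mi Q x) {g : GL ι F} (hg : g ∈ isometryGroup F Q) :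
    Mi Q (g * x * g⁻¹) := by
  intro W hW h2 w hw hq
  have h3 := h _ (comap_inv hW) (by rw [finrank_comap_eqv, h2]) ((eqv g).symm w)
    (by
      rw [Submodule.mem_comap]
      change eqv g ((eqv g).symm w) ∈ W
      rw [(eqv g).apply_symm_apply]
      exact hw)
    (by
      have h4 : Q ((g : Matrix ι ι F) *ᵥ ((eqv g).symm w)) = Q ((eqv g).symm w) := hg ((eqv g).symm w) ((eqv g).symm w)
      have h5 : (g : Matrix ι ι F) *ᵥ ((eqv g).symm w) = w := (eqv g).apply_symm_apply w
      rw [h5, hq] at h4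
      exact h4.symm)
  exact (LinearEquiv.map_eq_zero_iff _).1 h3

section perp

variable [Finite F]

/-- the orthogonal complement -/
def prp (Q : QuadraticForm F (ι → F)) (W : Submodule F (ι → F)) : Submodule F (ι → F) :=
  LinearMap.BilinForm.orthogonal (polarBilin Q) W

theorem mem_prp {Q : QuadraticForm F (ι → F)} {W : Submodule F (ι → F)} {v : ι → F} :
    v ∈ prp Q W ↔ ∀ w ∈ W, polar Q w v = 0 := by
  rw [prp, LinearMap.BilinForm.mem_orthogonal_iff]
  rfl

theorem finrank_prp {Q : QuadraticForm F (ι → F)} (hQ : Nondeg Q) (W : Submodule F (ι → F)) :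
    finrank F (prp Q W) = Fintype.card ι - finrank F W := by
  rw [prp, LinearMap.BilinForm.finrank_orthogonal, Module.finrank_fintype_fun_eq_card]
  exact nondegenerate_iff_nondeg.2 hQ

theorem prp_inv {Q : QuadraticForm F (ι → F)} {W : Submodule F (ι → F)} {x : GL ι F} (hx : x ∈ isometryGroup F ⇑Q)
    (hW : ∀ w ∈ W, ((x⁻¹ : GL ι F) : Matrix ι ι F) *ᵥ w ∈ W) : ∀ v ∈ prp Q W, (x : Matrix ι ι F) *ᵥ v ∈ prp Q W := by
  intro v hv
  rw [mem_prp] at hv ⊢
  intro w hw
  have h1 := hv _ (hW w hw)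
  have h2 := polar_isom hx (((x⁻¹ : GL ι F) : Matrix ι ι F) *ᵥ w) v
  rw [Matrix.mulVec_mulVec, ← Units.val_mul, mul_inv_cancel, Units.val_one, Matrix.one_mulVec] at h2
  rw [h2, h1]

/-- a reducible group containing an element of each type, when only the dimensions 2 and `n - 2` are common -/
theorem red_two {Q : QuadraticForm F (ι → F)} (hQ : Nondeg Q) {H : Subgroup (GL ι F)} (hR : Red H)
    (hH : H ≤ isometryGroup F ⇑Q) {x y : GL ι F} (hx : x ∈ H) (hy : y ∈ H) {S T : Set ℕ}
    (dx : Dims x S) (dy : Dims y T) (px : Pl ⇑Q x) (my : Mi ⇑Q y)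
    (hST : ∀ d, 0 < d → d < Fintype.card ι → d ∈ S → d ∈ T → d = 2 ∨ Fintype.card ι = d + 2) : False := by
  obtain ⟨W, h0, h1, hW⟩ := hR
  have hinv : ∀ z ∈ H, ∀ w ∈ W, (z : Matrix ι ι F) *ᵥ w ∈ W := fun z hz w hw => (hW hz w).1 hw
  have key : ∀ W : Submodule F (ι → F), (∀ z ∈ H, ∀ w ∈ W, (z : Matrix ι ι F) *ᵥ w ∈ W) → finrank F W = 2 → False := by
    intro W hW h2
    obtain ⟨w, hw, hw0, hq⟩ := px W (hW x hx) h2
    exact hw0 (my W (hW y hy) h2 w hw hq)
  rcases hST (finrank F W) (Nat.pos_of_ne_zero fun h => h0 (Submodule.finrank_eq_zero.1 h))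
    (by rw [← Module.finrank_fintype_fun_eq_card (R := F)]; exact Submodule.finrank_lt h1)
    (dx W (hinv x hx)) (dy W (hinv y hy)) with h2 | h2
  · exact key W hinv h2
  · refine key (prp Q W) (fun z hz => prp_inv (hH hz) (hinv _ (H.inv_mem hz))) ?_
    rw [finrank_prp hQ, h2]
    omega

end perp

end Cfsg.Agent.H989.Cov
end

-- part: H989/Cov/El
section
/-!
# S2499, `Ω^±_12(2)`: elements with two blocks, the second one of dimension two (helper989)

* `pair_plane` : invariant planes of `x₁ × x₂`; `pl_of_pair`, `mi_of_pair`;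
* `blk_of_pair`, `blk_of_mul` : the block of a field element;
* `Zd` : an element with a power of order 31 and a kernel of dimension 5.
-/

set_option autoImplicit false
set_option linter.unusedSectionVars false
set_option linter.style.haveILetI false

namespace Cfsg.Agent.H989.Cov

open Module Cfsg Cfsg.Geo QuadraticMap
open Cfsg.Agent.LieClassical.OrthCore Cfsg.Agent.LieClassical.OrthForms
open Cfsg.Agent.H182.Sign
open Cfsg.Agent.H383.Cov
open Cfsg.Agent.H689 (Ppd)
open scoped MatrixGroups Matrix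

/-! ### Planes -/

section plane

variable {F V₁ V₂ : Type*} [Field F] [AddCommGroup V₁] [Module F V₁] [FiniteDimensional F V₁]
  [AddCommGroup V₂] [Module F V₂] [FiniteDimensional F V₂]

/-- invariant planes of a pair -/
theorem pair_plane {x₁ : Module.End F V₁} {x₂ : Module.End F V₂} {M N : ℕ} (h₁ : x₁ ^ M = 1) (h₂ : x₂ ^ N = 1)
    (hc : M.Coprime N) (hf : ∀ v, x₁ v = v → v = 0)
    (d₁ : ∀ W : Submodule F V₁, (∀ w ∈ W, x₁ w ∈ W) → finrank F W ≤ 2 → finrank F W = 0) (hd : finrank F V₂ = 2)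
    {W : Submodule F (V₁ × V₂)} (hW : ∀ w ∈ W, (x₁.prodMap x₂ : Module.End F (V₁ × V₂)) w ∈ W)
    (h2 : finrank F W = 2) : (∀ v : V₂, ((0, v) : V₁ × V₂) ∈ W) ∧ ∀ w ∈ W, w.1 = 0 := by
  obtain ⟨j, hj1, hj2⟩ := exists_pow_left h₁ h₂ hc
  have hWj : ∀ w ∈ W, (x₁ w.1, w.2) ∈ W := by
    intro w hw
    have h := inv_pow hW j w hw
    rw [pair_pow, hj1, hj2] at h
    exact h
  have h3 := split_inv hf hWj
  have h4 : finrank F (W.comap (LinearMap.inl F V₁ V₂)) = 0 :=
    d₁ _ (fun w hw => hWj _ hw) (by omega)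
  have h5 : W.comap (LinearMap.inr F V₁ V₂) = ⊤ := by
    apply Submodule.eq_top_of_finrank_eq
    omega
  have h6 : ∀ v : V₂, ((0, v) : V₁ × V₂) ∈ W := by
    intro v
    have h7 : v ∈ W.comap (LinearMap.inr F V₁ V₂) := by rw [h5]; trivial
    exact h7
  refine ⟨h6, fun w hw => ?_⟩
  have h7 := W.sub_mem hw (h6 w.2)
  have h8 : w - (0, w.2) = (w.1, 0) := Prod.ext (sub_zero _) (sub_self _)
  rw [h8] at h7
  have h9 : w.1 ∈ W.comap (LinearMap.inl F V₁ V₂) := h7
  rw [Submodule.finrank_eq_zero.1 h4] at h9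
  exact (Submodule.mem_bot F).1 h9

end plane

section

variable {ι : Type} [Fintype ι] [DecidableEq ι] {F : Type} [Field F] [Finite F]

/-- an anisotropic plane -/
theorem aniso_of_sg {V : Type} [AddCommGroup V] [Module F V] [Finite V] {Q : QuadraticForm F V} (h : Sg Q 1 (-1))
    (v : V) (hv : Q v = 0) : v = 0 := by
  obtain ⟨b, hb⟩ := Cfsg.Agent.H182.Sign.exists_aniso F
  obtain ⟨e, he⟩ := Sg.exists_equiv h (sg_minusForm (F := F) 0 hb)
  have h1 := he v
  rw [hv, coe_minusForm, quadFormMinus_apply] at h1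
  simp only [Finset.univ_eq_empty, Finset.sum_empty, zero_add] at h1
  obtain ⟨h2, h3⟩ := hb _ _ h1
  have h4 : e v = 0 := by
    funext i
    rcases i with i | i
    · rcases i with i | i <;> exact i.elim0
    · fin_cases i
      · exact h2
      · exact h3
  exact (LinearEquiv.map_eq_zero_iff _).1 h4

theorem map_inv' {V : Type} [AddCommGroup V] [Module F V] {X : GL ι F} {x : Module.End F V} {e : (ι → F) ≃ₗ[F] V}
    (he : ∀ v, e ((X : Matrix ι ι F) *ᵥ v) = x (e v)) {W : Submodule F (ι → F)}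
    (hW : ∀ w ∈ W, (X : Matrix ι ι F) *ᵥ w ∈ W) : ∀ w ∈ W.map (e : (ι → F) →ₗ[F] V), x w ∈ W.map (e : (ι → F) →ₗ[F] V) := by
  rintro _ ⟨w, hw, rfl⟩
  exact ⟨_, hW w hw, he w⟩

variable {V₁ V₂ : Type} [AddCommGroup V₁] [Module F V₁] [Finite V₁] [AddCommGroup V₂] [Module F V₂] [Finite V₂]

theorem mi_of_pair {Q : (ι → F) → F} {Q₁ : QuadraticForm F V₁} {Q₂ : QuadraticForm F V₂} {X : GL ι F}
    {x₁ : Module.End F V₁} {x₂ : Module.End F V₂} {e : (ι → F) ≃ₗ[F] (V₁ × V₂)}
    (he : ∀ v, e ((X : Matrix ι ι F) *ᵥ v) = (x₁.prodMap x₂ : Module.End F (V₁ × V₂)) (e v))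
    (heq : ∀ v, prodForm Q₁ Q₂ (e v) = Q v) {M N : ℕ} (h₁ : x₁ ^ M = 1) (h₂ : x₂ ^ N = 1)
    (hc : M.Coprime N) (hf : ∀ v, x₁ v = v → v = 0)
    (d₁ : ∀ W : Submodule F V₁, (∀ w ∈ W, x₁ w ∈ W) → finrank F W ≤ 2 → finrank F W = 0) (hs : Sg Q₂ 1 (-1)) :
    Mi Q X := by
  have hf1 : FiniteDimensional F V₁ := Module.Finite.of_finite
  have hf2 : FiniteDimensional F V₂ := Module.Finite.of_finite
  intro W hW h2 w hw hq
  obtain ⟨-, h4⟩ := pair_plane h₁ h₂ hc hf d₁ hs.dim (map_inv' he hW) (by rw [LinearEquiv.finrank_map_eq, h2])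
  have h5 := h4 (e w) ⟨w, hw, rfl⟩
  have h6 := heq w
  rw [hq, prodForm_apply, h5, QuadraticMap.map_zero, zero_add] at h6
  have h7 := aniso_of_sg hs _ h6
  exact (LinearEquiv.map_eq_zero_iff _).1 (Prod.ext h5 h7 : e w = 0)

theorem pl_of_pair {Q : (ι → F) → F} {Q₁ : QuadraticForm F V₁} {Q₂ : QuadraticForm F V₂} {X : GL ι F}
    {x₁ : Module.End F V₁} {x₂ : Module.End F V₂} {e : (ι → F) ≃ₗ[F] (V₁ × V₂)}
    (he : ∀ v, e ((X : Matrix ι ι F) *ᵥ v) = (x₁.prodMap x₂ : Module.End F (V₁ × V₂)) (e v))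
    (heq : ∀ v, prodForm Q₁ Q₂ (e v) = Q v) {M N : ℕ} (h₁ : x₁ ^ M = 1) (h₂ : x₂ ^ N = 1)
    (hc : M.Coprime N) (hf : ∀ v, x₁ v = v → v = 0)
    (d₁ : ∀ W : Submodule F V₁, (∀ w ∈ W, x₁ w ∈ W) → finrank F W ≤ 2 → finrank F W = 0) (hd : finrank F V₂ = 2)
    {v₂ : V₂} (hv0 : v₂ ≠ 0) (hv : Q₂ v₂ = 0) : Pl Q X := by
  have hf1 : FiniteDimensional F V₁ := Module.Finite.of_finite
  have hf2 : FiniteDimensional F V₂ := Module.Finite.of_finite
  intro W hW h2
  obtain ⟨h3, -⟩ := pair_plane h₁ h₂ hc hf d₁ hd (map_inv' he hW) (by rw [LinearEquiv.finrank_map_eq, h2])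
  obtain ⟨w, hw, hwe⟩ := h3 v₂
  have hwe' : e w = (0, v₂) := hwe
  refine ⟨w, hw, ?_, ?_⟩
  · rintro rfl
    rw [map_zero] at hwe'
    exact hv0 (congrArg Prod.snd hwe').symm
  · rw [← heq, hwe', prodForm_apply, QuadraticMap.map_zero, zero_add]
    exact hv

/-! ### Blocks -/

/-- the numerical conditions on the order `M` of a block of dimension `k` -/
def Bn (q k M : ℕ) : Prop := M ≠ 1 ∧ M.Coprime q ∧ ∀ i, 1 ≤ i → i < k → M.Coprime (q ^ i - 1)

variable {L : Type} [Field L] [Algebra F L] [Finite L]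

theorem blk_of_pair {k M : ℕ} (hn : Bn (Nat.card F) k M) {u : L} (hu : orderOf u = M)
    (hL : finrank F L = k) {X : GL ι F} {V : Type} [AddCommGroup V] [Module F V] [Finite V]
    (hX : Sim X ((LinearMap.mulLeft F u : Module.End F L).prodMap (1 : Module.End F V))) :
    orderOf X = M ∧ Blk k X := by
  have hfL : FiniteDimensional F L := Module.Finite.of_finite
  have hfV : FiniteDimensional F V := Module.Finite.of_finite
  have hoX : orderOf X = M := by
    rw [hX.orderOf_eq, ← hu, ← orderOf_mulLeft (F := F) u]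
    apply Nat.dvd_antisymm
    · apply orderOf_dvd_of_pow_eq_one
      rw [pair_pow, pow_orderOf_eq_one, one_pow]
      rfl
    · apply orderOf_dvd_of_pow_eq_one
      have h1 := pow_orderOf_eq_one ((LinearMap.mulLeft F u : Module.End F L).prodMap (1 : Module.End F V))
      rw [pair_pow] at h1
      apply LinearMap.ext
      intro v
      exact congrArg (fun f : Module.End F (L × V) => (f (v, 0)).1) h1
  refine ⟨hoX, ?_, ?_, ?_⟩
  · rw [hoX]; exact hn.2.1
  · intro i hi hk
    rw [hoX]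
    exact hn.2.2 i hi hk
  · rw [hX.rk, range_pair (mulLeft_free (ne_one_of_order hu hn.1)), hL]

theorem blk_of_mul {k M : ℕ} (hn : Bn (Nat.card F) k M) {u : L} (hu : orderOf u = M)
    (hL : finrank F L = k) {X : GL ι F} (hX : Sim X (LinearMap.mulLeft F u : Module.End F L)) :
    orderOf X = M ∧ Blk k X := by
  have hfL : FiniteDimensional F L := Module.Finite.of_finite
  have hoX : orderOf X = M := by rw [hX.orderOf_eq, ← hu, orderOf_mulLeft (F := F) u]
  refine ⟨hoX, ?_, ?_, ?_⟩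
  · rw [hoX]; exact hn.2.1
  · intro i hi hk
    rw [hoX]
    exact hn.2.2 i hi hk
  · rw [hX.rk]
    have hinj : Function.Injective ⇑((LinearMap.mulLeft F u : Module.End F L) - 1) := by
      rw [← LinearMap.ker_eq_bot, LinearMap.ker_eq_bot']
      intro v hv
      exact mulLeft_free (F := F) (ne_one_of_order hu hn.1) v (sub_eq_zero.1 hv)
    rw [LinearMap.finrank_range_of_inj hinj, hL]

/-- invariant subspaces of a multiplication -/
theorem mul_case {w : L} {d M : ℕ} (hu : orderOf w = M) (hd : finrank F L = d) (h0 : w ≠ 0)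
    (h : ∀ j, 1 ≤ j → j < d → ¬ M ∣ Nat.card F ^ j - 1) {W : Submodule F L}
    (hW : ∀ v ∈ W, LinearMap.mulLeft F w v ∈ W) : finrank F W = 0 ∨ finrank F W = d := by
  rcases irr_mul (F := F) (ζ := w) (by rw [hd, hu]; exact h) h0 hW with rfl | rfl
  · left; exact finrank_bot F L
  · right; rw [finrank_top]; exact hd

/-! ### The blocks `pos 5` -/

/-- a power of order 31 and a polynomial with a kernel of dimension 5 -/
def Zd (z : GL ι F) : Prop :=
  ∃ j : ℕ, orderOf (z ^ j) = 31 ∧ ∃ P : Polynomial F,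
    finrank F (LinearMap.ker (Matrix.toLin' (Polynomial.aeval ((z ^ j : GL ι F) : Matrix ι ι F) P))) = 5

theorem Zd.conj {z : GL ι F} (h : Zd z) (g : GL ι F) : Zd (g * z * g⁻¹) := by
  obtain ⟨j, h1, P, h2⟩ := h
  refine ⟨j, ?_, P, ?_⟩
  · rw [conj_pow, orderOf_conj, h1]
  · rw [conj_pow]
    have h : Sim (g * z ^ j * g⁻¹) (Matrix.toLin' ((z ^ j : GL ι F) : Matrix ι ι F)) := by
      refine ⟨(eqv g).symm, fun v => ?_⟩
      rw [eqv_symm_apply, eqv_symm_apply, Matrix.toLin'_apply, Units.val_mul, Units.val_mul, Matrix.mulVec_mulVec,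
        Matrix.mulVec_mulVec, ← mul_assoc, ← mul_assoc, ← Units.val_mul, inv_mul_cancel, Units.val_one, one_mul]
    have h' : Sim (z ^ j) (Matrix.toLin' ((z ^ j : GL ι F) : Matrix ι ι F)) := ⟨LinearEquiv.refl F _, fun v => rfl⟩
    rw [h.ker, ← h'.ker, h2]

theorem zd_of_pair {K : Type} [Field K] [Algebra F K] [Finite K] {u : K} (hu : orderOf u = 31) (h0 : u ≠ 0)
    (hK : finrank F K = 5) {X : GL ι F} {V : Type} [AddCommGroup V] [Module F V] [Finite V]
    (hX : Sim X ((dg F u).prodMap (1 : Module.End F V))) :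
    orderOf X = 31 ∧ finrank F (LinearMap.ker (Matrix.toLin' (Polynomial.aeval (X : Matrix ι ι F) (minpoly F u)))) = 5 := by
  have hfK : FiniteDimensional F K := Module.Finite.of_finite
  have hfV : FiniteDimensional F V := Module.Finite.of_finite
  have hu1 : u ≠ 1 := ne_one_of_order hu (by norm_num)
  constructor
  · rw [hX.orderOf_eq]
    apply Nat.dvd_antisymm
    · apply orderOf_dvd_of_pow_eq_one
      have hFin : Finite F := inferInstance
      rw [pair_pow, one_pow, dg_pow, ← hu, pow_orderOf_eq_one, dg_one]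
      rfl
    · rw [← hu]
      apply orderOf_dvd_of_pow_eq_one
      have h1 := pow_orderOf_eq_one ((dg F u).prodMap (1 : Module.End F V))
      rw [pair_pow, dg_pow] at h1
      have h2 := congrArg (fun f : Module.End F ((K × K) × V) => (f ((1, 0), 0)).1.1) h1
      have h3 : u ^ orderOf ((dg F u).prodMap (1 : Module.End F V)) * (1 : K) = 1 := h2
      rwa [mul_one] at h3
  · rw [hX.ker, aeval_pair, ker_pair, ker_dg_minpoly (by rw [hK]; decide) h0 (sq_ne_one hu (by decide) (by norm_num)), hK]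
    have h1 : Polynomial.aeval (1 : Module.End F V) (minpoly F u) =
        (Polynomial.eval 1 (minpoly F u)) • (1 : Module.End F V) := by
      have h2 : (1 : Module.End F V) = algebraMap F (Module.End F V) 1 := (map_one _).symm
      rw [h2, Polynomial.aeval_algebraMap_apply, Polynomial.coe_aeval_eq_eval, map_one, Algebra.algebraMap_eq_smul_one]
    have h2 : Polynomial.eval 1 (minpoly F u) ≠ 0 := by
      intro h3
      have h4 : Polynomial.aeval (algebraMap F K 1) (minpoly F u) = 0 := by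
        rw [Polynomial.aeval_algebraMap_apply, Polynomial.coe_aeval_eq_eval, h3, map_zero]
      rw [map_one] at h4
      have hint : IsIntegral F u := IsIntegral.of_finite F u
      have h5 := minpoly.eq_of_irreducible_of_monic (minpoly.irreducible hint) h4 (minpoly.monic hint)
      have h6 : minpoly F (1 : K) = Polynomial.X - 1 := minpoly.one _ _
      have h7 := minpoly.aeval F u
      rw [h5, h6, map_sub, Polynomial.aeval_X, map_one] at h7
      exact hu1 (sub_eq_zero.1 h7)
    have h3 : finrank F (LinearMap.ker (Polynomial.aeval (1 : Module.End F V) (minpoly F u))) = 0 := by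
      rw [h1, Submodule.finrank_eq_zero, LinearMap.ker_eq_bot']
      intro v hv
      rw [LinearMap.smul_apply, Module.End.one_apply] at hv
      exact (smul_eq_zero.1 hv).resolve_left h2
    rw [h3]

theorem ppd_31 : Ppd 2 5 31 := by
  refine ⟨by norm_num, fun m => ?_, by norm_num, by norm_num⟩
  have h1 : ∀ a b : ℕ, 2 ^ (5 * a + b) % 31 = 2 ^ b % 31 := by
    intro a b
    rw [pow_add, pow_mul, Nat.mul_mod, Nat.pow_mod]
    norm_num
  have h2 : 2 ^ m % 31 = 2 ^ (m % 5) % 31 := by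
    conv_lhs => rw [← Nat.div_add_mod m 5]
    exact h1 _ _
  have hpos : 0 < 2 ^ m := pow_pos (by norm_num) _
  have hlt : m % 5 < 5 := Nat.mod_lt _ (by norm_num)
  constructor
  · intro h
    have h3 : 2 ^ m % 31 = 1 := by (clear * - hpos h; omega)
    rw [h2] at h3
    apply Nat.dvd_of_mod_eq_zero
    interval_cases h4 : m % 5 <;> simp_all only [_root_.Order.lt_two_iff, _root_.zero_le, _root_.pow_pos, _root_.pow_zero, _root_.Nat.one_mod, _root_.Nat.ofNat_pos, _root_.pow_one, _root_.Nat.reduceMod, _root_.Nat.one_lt_ofNat, _root_.OfNat.ofNat_ne_one, _root_.Nat.reducePow, _root_.Nat.reduceLT, _root_.Nat.lt_add_one]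
  · intro h
    have h3 : m % 5 = 0 := Nat.mod_eq_zero_of_dvd h
    rw [h3] at h2
    norm_num at h2
    omega

end

end Cfsg.Agent.H989.Cov
end

-- part: H989/Cov/El12
section
/-!
# S2499, `Ω^±_12(2)`: the elements (helper989)

* minus type: `neg 6` (order 13), `neg 5 + 1` (order 33), `pos 5 + neg 1` (order 93);
* plus type: `neg 5 + neg 1` (order 33), `neg 4 + neg 2` (order 85), `pos 5 + 1` (order 31).
-/

set_option autoImplicit false
set_option linter.unusedSectionVars false
set_option linter.style.haveILetI false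

namespace Cfsg.Agent.H989.Cov

open Module Cfsg Cfsg.Geo QuadraticMap
open Cfsg.Agent.LieClassical.OrthCore Cfsg.Agent.LieClassical.OrthForms
open Cfsg.Agent.H182.Sign
open Cfsg.Agent.H383.Cov
open Cfsg.Agent.H689 (Ppd)
open scoped MatrixGroups Matrix

theorem bn_13 : Bn 2 12 13 := by
  refine ⟨by norm_num, by norm_num, fun i h1 h2 => ?_⟩
  interval_cases i <;> norm_num

theorem bn_11 : Bn 2 10 11 := by
  refine ⟨by norm_num, by norm_num, fun i h1 h2 => ?_⟩
  interval_cases i <;> norm_num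

theorem bn_17 : Bn 2 8 17 := by
  refine ⟨by norm_num, by norm_num, fun i h1 h2 => ?_⟩
  interval_cases i <;> norm_num

section

variable {F : Type} [Field F] [Fintype F]

/-- a non-zero singular vector of the hyperbolic plane -/
theorem exists_sing : ∃ v : Fin 1 ⊕ Fin 1 → F, v ≠ 0 ∧ plusForm 1 F v = 0 := by
  refine ⟨Pi.single (Sum.inl 0) 1, ?_, ?_⟩
  · intro h
    have := congrFun h (Sum.inl 0)
    simp at this
  · rw [coe_plusForm]
    simp [quadFormPlus]

variable (hF : Fintype.card F = 2)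
include hF

theorem not_dvd_of (M d : ℕ) (h : ∀ j, 1 ≤ j → j < d → ¬ M ∣ 2 ^ j - 1) :
    ∀ j, 1 ≤ j → j < d → ¬ M ∣ Nat.card F ^ j - 1 := by
  rw [Nat.card_eq_fintype_card, hF]
  exact h

theorem bn_of {k M : ℕ} (h : Bn 2 k M) : Bn (Nat.card F) k M := by
  rw [Nat.card_eq_fintype_card, hF]
  exact h

section minus

variable {Q : QuadraticForm F (Fin 12 → F)} (hQ : Sg Q 6 (-1))
include hQ

/-- `neg 6` -/
theorem mA : ∃ A : GL (Fin 12) F, A ∈ omegaGL ⇑Q ∧ orderOf A = 13 ∧ Blk 12 A ∧ Dims A {0, 12} := by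
  obtain ⟨L, _, _, _, Q', u, s1, s2, s3, s4, s5⟩ := exists_negN (F := F) (k := 6) (N := 13) (by norm_num)
    (by rw [hF]; norm_num)
  have hfL : FiniteDimensional F L := Module.Finite.of_finite
  obtain ⟨A, hA, e, he, -⟩ := exists_el hQ (by rw [Fintype.card_fin]; norm_num) s1
    (x := LinearMap.mulLeft F u) (M := 13) s5 (by decide) (by rw [mulLeft_pow, mulLeft_eq_one, ← s3, pow_orderOf_eq_one])
  have hsim : Sim A (LinearMap.mulLeft F u) := ⟨e, he⟩
  obtain ⟨h1, h2⟩ := blk_of_mul (bn_of hF bn_13) s3 s2 hsim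
  refine ⟨A, hA, h1, h2, hsim.dims fun W hW => ?_⟩
  exact mul_case s3 s2 s4 (not_dvd_of hF _ _ (by intro j h1 h2; interval_cases j <;> norm_num)) hW

/-- `neg 5 + 1` -/
theorem mB : ∃ B : GL (Fin 12) F, B ∈ omegaGL ⇑Q ∧ orderOf B = 33 ∧ (orderOf (B ^ 3) = 11 ∧ Blk 10 (B ^ 3)) ∧
    Dims B {d | d ≤ 2 ∨ 10 ≤ d} ∧ Pl ⇑Q B := by
  obtain ⟨L, _, _, _, Q', u, s1, s2, s3, s4, s5⟩ := exists_negN (F := F) (k := 5) (N := 33) (by norm_num)
    (by rw [hF]; norm_num)
  have hfL : FiniteDimensional F L := Module.Finite.of_finite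
  have hs := s1.prod (sg_plusForm (F := F) 1)
  have p1 : (LinearMap.mulLeft F u : Module.End F L) ^ 33 = 1 := by
    rw [mulLeft_pow, mulLeft_eq_one, ← s3, pow_orderOf_eq_one]
  have p2 : (1 : Module.End F (Fin 1 ⊕ Fin 1 → F)) ^ 1 = 1 := one_pow _
  obtain ⟨B, hB, e, he, heq⟩ := exists_el hQ (by rw [Fintype.card_fin]; norm_num) hs
    (x := (LinearMap.mulLeft F u).prodMap 1) (M := 33)
    (by
      intro v
      rw [prodForm_apply, prodForm_apply]
      change Q' (u * v.1) + plusForm 1 F v.2 = _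
      rw [s5])
    (by decide)
    (by
      rw [pair_pow, p1, one_pow]
      rfl)
  have hsim : Sim B ((LinearMap.mulLeft F u : Module.End F L).prodMap (1 : Module.End F (Fin 1 ⊕ Fin 1 → F))) := ⟨e, he⟩
  have hsim3 : Sim (B ^ 3) ((LinearMap.mulLeft F (u ^ 3) : Module.End F L).prodMap
      (1 : Module.End F (Fin 1 ⊕ Fin 1 → F))) := by
    have h := hsim.pow 3
    rw [pair_pow, mulLeft_pow, one_pow] at h
    exact h
  have hu3 : orderOf (u ^ 3) = 11 := by
    rw [orderOf_pow_of_dvd (by norm_num) (by rw [s3]; norm_num), s3]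
  have hu1 : u ≠ 1 := ne_one_of_order s3 (by norm_num)
  have hd2 : finrank F (Fin 1 ⊕ Fin 1 → F) = 2 := by
    rw [Module.finrank_fintype_fun_eq_card]
    rfl
  have hcase : ∀ W : Submodule F L, (∀ v ∈ W, LinearMap.mulLeft F u v ∈ W) → finrank F W = 0 ∨ finrank F W = 10 :=
    fun W hW => mul_case s3 s2 s4 (not_dvd_of hF _ _ (by intro j h1 h2; interval_cases j <;> norm_num)) hW
  refine ⟨B, hB, ?_, blk_of_pair (bn_of hF bn_11) hu3 s2 hsim3, hsim.dims fun W hW => ?_, ?_⟩
  · rw [hsim.orderOf_eq]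
    apply Nat.dvd_antisymm
    · apply orderOf_dvd_of_pow_eq_one
      rw [pair_pow, p1, one_pow]
      rfl
    · rw [← s3]
      apply orderOf_dvd_of_pow_eq_one
      have h1 := pow_orderOf_eq_one ((LinearMap.mulLeft F u : Module.End F L).prodMap
        (1 : Module.End F (Fin 1 ⊕ Fin 1 → F)))
      rw [pair_pow, mulLeft_pow] at h1
      have h2 := congrArg (fun f : Module.End F (L × (Fin 1 ⊕ Fin 1 → F)) => (f (1, 0)).1) h1
      have h3 : u ^ orderOf ((LinearMap.mulLeft F u : Module.End F L).prodMap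
        (1 : Module.End F (Fin 1 ⊕ Fin 1 → F))) * (1 : L) = 1 := h2
      rwa [mul_one] at h3
  · obtain ⟨s, hs', t, ht', hst⟩ := pair_dims (S₁ := {d | d = 0 ∨ d = 10}) (S₂ := {d | d ≤ 2}) p1 p2
      (Nat.coprime_one_right 33) (mulLeft_free hu1) hcase
      (by
        intro W _
        rw [Set.mem_ofPred_eq, ← hd2]
        exact Submodule.finrank_le W) hW
    rw [hst]
    simp only [Set.mem_ofPred_eq] at hs' ht' ⊢
    omega
  · obtain ⟨v, hv0, hv⟩ := exists_sing (F := F)
    exact pl_of_pair he heq p1 p2 (Nat.coprime_one_right 33) (mulLeft_free hu1)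
      (fun W hW h2 => by rcases hcase W hW with h | h <;> omega) hd2 hv0 hv

/-- `pos 5 + neg 1` -/
theorem mC : ∃ C : GL (Fin 12) F, C ∈ omegaGL ⇑Q ∧ Zd C ∧ Dims C {d | d % 5 = 0 ∨ d % 5 = 2} ∧ Mi ⇑Q C := by
  obtain ⟨K, _, _, _, Q₁, u, s1, s2, s3, s4, s5⟩ := exists_posN (F := F) (k := 5) (N := 31) (by norm_num)
    (by rw [hF]; norm_num)
  obtain ⟨L, _, _, _, Q₂, w, t1, t2, t3, t4, t5⟩ := exists_negN (F := F) (k := 1) (N := 3) (by norm_num)
    (by rw [hF]; norm_num)
  have hfK : FiniteDimensional F K := Module.Finite.of_finite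
  have hfL : FiniteDimensional F L := Module.Finite.of_finite
  have hs := s1.prod t1
  have p1 : (dg F u) ^ 31 = 1 := dg_pow_eq_one s3
  have p2 : (LinearMap.mulLeft F w : Module.End F L) ^ 3 = 1 := by
    rw [mulLeft_pow, mulLeft_eq_one, ← t3, pow_orderOf_eq_one]
  obtain ⟨C, hC, e, he, heq⟩ := exists_el hQ (by rw [Fintype.card_fin]; norm_num) hs
    (x := (dg F u).prodMap (LinearMap.mulLeft F w)) (M := 31 * 3)
    (by
      intro v
      rw [prodForm_apply, prodForm_apply]
      change Q₁ (dg F u v.1) + Q₂ (w * v.2) = _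
      rw [s5 u s4, t5])
    (by decide)
    (by
      rw [pair_pow, pow_mul, p1, one_pow, mul_comm, pow_mul, p2, one_pow]
      rfl)
  have hsim : Sim C ((dg F u).prodMap (LinearMap.mulLeft F w)) := ⟨e, he⟩
  have hu1 : u ≠ 1 := ne_one_of_order s3 (by norm_num)
  have hcase : ∀ W : Submodule F (K × K), (∀ v ∈ W, dg F u v ∈ W) → 5 ∣ finrank F W :=
    fun W hW => dims_dg s3 (by rw [hF]; exact ppd_31) (by norm_num) hW
  refine ⟨C, hC, ?_, hsim.dims fun W hW => ?_, ?_⟩
  · obtain ⟨j, hj1, hj2⟩ := exists_pow_left p1 p2 (by norm_num)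
    have h := hsim.pow j
    rw [pair_pow, hj1, hj2] at h
    obtain ⟨h1, h2⟩ := zd_of_pair s3 s4 s2 h
    exact ⟨j, h1, _, h2⟩
  · obtain ⟨s, hs', t, ht', hst⟩ := pair_dims (S₁ := {d | 5 ∣ d}) (S₂ := {d | d = 0 ∨ d = 2}) p1 p2
      (by norm_num) (dg_free hu1) hcase
      (fun W hW => mul_case t3 t2 t4 (not_dvd_of hF _ _ (by intro j h1 h2; interval_cases j <;> norm_num)) hW) hW
    rw [hst]
    simp only [Set.mem_ofPred_eq] at hs' ht' ⊢
    omega
  · exact mi_of_pair he heq p1 p2 (by norm_num) (dg_free hu1)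
      (fun W hW h2 => by obtain ⟨c, hc⟩ := hcase W hW; omega) t1

end minus

section plus

variable {Q : QuadraticForm F (Fin 12 → F)} (hQ : Sg Q 6 1)
include hQ

/-- `neg a + neg b` -/
theorem pN {a b M N : ℕ} (hab : a + b = 6) (ha : a ≠ 0) (hb : b ≠ 0) (hM : M ∣ 2 ^ a + 1) (hN : N ∣ 2 ^ b + 1)
    (hMo : Odd M) (hNo : Odd N) (hMN : M.Coprime N) (hBn : Bn 2 (2 * a) M)
    (hM' : ∀ j, 1 ≤ j → j < 2 * a → ¬ M ∣ 2 ^ j - 1) (hN' : ∀ j, 1 ≤ j → j < 2 * b → ¬ N ∣ 2 ^ j - 1) :
    ∃ A : GL (Fin 12) F, A ∈ omegaGL ⇑Q ∧ (∃ j, orderOf (A ^ j) = M ∧ Blk (2 * a) (A ^ j)) ∧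
      Dims A {d | d = 0 ∨ d = 2 * a ∨ d = 2 * b ∨ d = 12} ∧ (b = 1 → Mi ⇑Q A) := by
  obtain ⟨L, _, _, _, Q₁, u, s1, s2, s3, s4, s5⟩ := exists_negN (F := F) (k := a) (N := M) ha
    (by rw [hF]; exact hM)
  obtain ⟨L', _, _, _, Q₂, w, t1, t2, t3, t4, t5⟩ := exists_negN (F := F) (k := b) (N := N) hb
    (by rw [hF]; exact hN)
  have hfL : FiniteDimensional F L := Module.Finite.of_finite
  have hfL' : FiniteDimensional F L' := Module.Finite.of_finite
  have hs := s1.prod t1
  rw [hab, show (-1 : ℤ) * -1 = 1 by norm_num] at hs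
  have p1 : (LinearMap.mulLeft F u : Module.End F L) ^ M = 1 := by
    rw [mulLeft_pow, mulLeft_eq_one, ← s3, pow_orderOf_eq_one]
  have p2 : (LinearMap.mulLeft F w : Module.End F L') ^ N = 1 := by
    rw [mulLeft_pow, mulLeft_eq_one, ← t3, pow_orderOf_eq_one]
  obtain ⟨A, hA, e, he, heq⟩ := exists_el hQ (by rw [Fintype.card_fin]; norm_num) hs
    (x := (LinearMap.mulLeft F u).prodMap (LinearMap.mulLeft F w)) (M := M * N)
    (by
      intro v
      rw [prodForm_apply, prodForm_apply]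
      change Q₁ (u * v.1) + Q₂ (w * v.2) = _
      rw [s5, t5])
    (hMo.mul hNo)
    (by
      rw [pair_pow, pow_mul, p1, one_pow, mul_comm, pow_mul, p2, one_pow]
      rfl)
  have hsim : Sim A ((LinearMap.mulLeft F u).prodMap (LinearMap.mulLeft F w)) := ⟨e, he⟩
  have hu1 : u ≠ 1 := ne_one_of_order s3 hBn.1
  have hcase : ∀ W : Submodule F L, (∀ v ∈ W, LinearMap.mulLeft F u v ∈ W) → finrank F W = 0 ∨ finrank F W = 2 * a :=
    fun W hW => mul_case s3 s2 s4 (not_dvd_of hF _ _ hM') hW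
  refine ⟨A, hA, ?_, hsim.dims fun W hW => ?_, ?_⟩
  · obtain ⟨j, hj1, hj2⟩ := exists_pow_left p1 p2 hMN
    have h := hsim.pow j
    rw [pair_pow, hj1, hj2] at h
    exact ⟨j, blk_of_pair (bn_of hF hBn) s3 s2 h⟩
  · obtain ⟨s, hs', t, ht', hst⟩ := pair_dims (S₁ := {d | d = 0 ∨ d = 2 * a}) (S₂ := {d | d = 0 ∨ d = 2 * b}) p1 p2
      hMN (mulLeft_free hu1) hcase (fun W hW => mul_case t3 t2 t4 (not_dvd_of hF _ _ hN') hW) hW
    rw [hst]
    simp only [Set.mem_ofPred_eq] at hs' ht' ⊢
    (clear * - hab hs' ht'; omega)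
  · rintro rfl
    exact mi_of_pair he heq p1 p2 hMN (mulLeft_free hu1)
      (fun W hW h2 => by rcases hcase W hW with h | h <;> omega) t1

/-- `pos 5 + 1` -/
theorem pC : ∃ C : GL (Fin 12) F, C ∈ omegaGL ⇑Q ∧ Zd C ∧ Dims C {d | d % 5 ≤ 2} ∧ Pl ⇑Q C := by
  obtain ⟨K, _, _, _, Q₁, u, s1, s2, s3, s4, s5⟩ := exists_posN (F := F) (k := 5) (N := 31) (by norm_num)
    (by rw [hF]; norm_num)
  have hfK : FiniteDimensional F K := Module.Finite.of_finite
  have hs := s1.prod (sg_plusForm (F := F) 1)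
  have p1 : (dg F u) ^ 31 = 1 := dg_pow_eq_one s3
  have p2 : (1 : Module.End F (Fin 1 ⊕ Fin 1 → F)) ^ 1 = 1 := one_pow _
  obtain ⟨C, hC, e, he, heq⟩ := exists_el hQ (by rw [Fintype.card_fin]; norm_num) hs
    (x := (dg F u).prodMap 1) (M := 31)
    (by
      intro v
      rw [prodForm_apply, prodForm_apply]
      change Q₁ (dg F u v.1) + plusForm 1 F v.2 = _
      rw [s5 u s4])
    (by decide)
    (by
      rw [pair_pow, p1, one_pow]
      rfl)
  have hsim : Sim C ((dg F u).prodMap (1 : Module.End F (Fin 1 ⊕ Fin 1 → F))) := ⟨e, he⟩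
  have hu1 : u ≠ 1 := ne_one_of_order s3 (by norm_num)
  have hd2 : finrank F (Fin 1 ⊕ Fin 1 → F) = 2 := by
    rw [Module.finrank_fintype_fun_eq_card]
    rfl
  have hcase : ∀ W : Submodule F (K × K), (∀ v ∈ W, dg F u v ∈ W) → 5 ∣ finrank F W :=
    fun W hW => dims_dg s3 (by rw [hF]; exact ppd_31) (by norm_num) hW
  refine ⟨C, hC, ⟨1, ?_⟩, hsim.dims fun W hW => ?_, ?_⟩
  · rw [pow_one]
    obtain ⟨h1, h2⟩ := zd_of_pair s3 s4 s2 hsim
    exact ⟨h1, _, h2⟩
  · obtain ⟨s, hs', t, ht', hst⟩ := pair_dims (S₁ := {d | 5 ∣ d}) (S₂ := {d | d ≤ 2}) p1 p2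
      (Nat.coprime_one_right 31) (dg_free hu1) hcase
      (by
        intro W _
        rw [Set.mem_ofPred_eq, ← hd2]
        exact Submodule.finrank_le W) hW
    rw [hst]
    simp only [Set.mem_ofPred_eq] at hs' ht' ⊢
    omega
  · obtain ⟨v, hv0, hv⟩ := exists_sing (F := F)
    exact pl_of_pair he heq p1 p2 (Nat.coprime_one_right 31) (dg_free hu1)
      (fun W hW h2 => by obtain ⟨c, hc⟩ := hcase W hW; omega) hd2 hv0 hv

end plus

end

end Cfsg.Agent.H989.Cov
end

-- part: H989/Cov/Res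
section
/-!
# S2499, `Ω^±_12(2)`: the residual class over the field with two elements (helper989)

* `res_hom` : a group in the residual class over `F_2` embeds in the automorphism group of its core;
* `l33_kill`, `a13_kill` : elements of order 11, 31, 33 and the cores `L_3(3)`, `A_13`.
-/

set_option autoImplicit false
set_option linter.unusedSectionVars false

namespace Cfsg.Agent.H989.Cov

open Cfsg Cfsg.Geo
open scoped MatrixGroups Matrix

variable {ι : Type} [Fintype ι] [DecidableEq ι] {F : Type} [Field F] [Fintype F]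

theorem scalars_bot (hF : Fintype.card F = 2) : scalars ι F = ⊥ := by
  classical
  rw [eq_bot_iff]
  intro z hz
  obtain ⟨c, hc⟩ := (mem_scalars_iff z).1 hz
  have h1 : Fintype.card Fˣ = 1 := by rw [Fintype.card_units, hF]
  have h2 : c = 1 := (Fintype.card_eq_one_iff_nonempty_unique.1 h1).some.toInhabited.default.casesOn
    (motive := fun _ => c = 1) (fun _ _ _ _ => by
      have := Fintype.card_le_one_iff_subsingleton.1 h1.le
      exact Subsingleton.elim _ _)
  rw [Subgroup.mem_bot]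
  apply Units.ext
  rw [hc, h2, Units.val_one, one_smul, Units.val_one]

/-- over the field with two elements the residual group embeds in the automorphism group of the core -/
theorem res_hom (hF : Fintype.card F = 2) {H P : Subgroup (GL ι F)} (hc : IsResidualCore H P) {T : Type} [Group T]
    (e : (P ⧸ (scalars ι F).subgroupOf P) ≃* T) : ∃ f : H →* MulAut T, Function.Injective f := by
  have hbot := scalars_bot (ι := ι) hF
  have h0 : (scalars ι F).subgroupOf P = ⊥ := by rw [hbot, Subgroup.bot_subgroupOf]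
  have e1 : P ≃* T := ((QuotientGroup.quotientBot (G := P)).symm.trans
    (QuotientGroup.quotientMulEquivOfEq h0.symm)).trans e
  let f0 : H →* MulAut P :=
    { toFun := fun h =>
        { toFun := fun x => ⟨h * x * (h : GL ι F)⁻¹, hc.normal h h.2 x x.2⟩
          invFun := fun x => ⟨(h : GL ι F)⁻¹ * x * h, by
            have := hc.normal _ (H.inv_mem h.2) x x.2
            rwa [inv_inv] at this⟩
          left_inv := fun x => by
            apply Subtype.ext
            change (h : GL ι F)⁻¹ * (h * x * (h : GL ι F)⁻¹) * h = x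
            group
          right_inv := fun x => by
            apply Subtype.ext
            change (h : GL ι F) * ((h : GL ι F)⁻¹ * x * h) * (h : GL ι F)⁻¹ = x
            group
          map_mul' := fun x y => by
            apply Subtype.ext
            change (h : GL ι F) * (x * y) * (h : GL ι F)⁻¹ = (h * x * (h : GL ι F)⁻¹) * (h * y * (h : GL ι F)⁻¹)
            group }
      map_one' := by
        apply MulEquiv.ext
        intro x
        apply Subtype.ext
        change (1 : GL ι F) * x * (1 : GL ι F)⁻¹ = x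
        group
      map_mul' := fun g h => by
        apply MulEquiv.ext
        intro x
        apply Subtype.ext
        change (g * h : GL ι F) * x * (g * h : GL ι F)⁻¹ = g * (h * x * (h : GL ι F)⁻¹) * (g : GL ι F)⁻¹
        group }
  have hf0 : Function.Injective f0 := by
    rw [injective_iff_map_eq_one]
    intro h hh
    have h1 : (h : GL ι F) ∈ scalars ι F := by
      apply hc.centralizer_scalar h h.2
      intro x hx
      have h2 := congrArg (fun f : MulAut P => ((f ⟨x, hx⟩ : P) : GL ι F)) hh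
      have h3 : (h : GL ι F) * x * (h : GL ι F)⁻¹ = x := h2
      rw [h3, mul_inv_cancel]
      exact one_mem _
    rw [hbot, Subgroup.mem_bot] at h1
    exact Subtype.ext h1
  refine ⟨(MulAut.congr e1).toMonoidHom.comp f0, ?_⟩
  exact (MulAut.congr e1).injective.comp hf0

/-- the order of an element of the residual group -/
theorem res_order (hF : Fintype.card F = 2) {H P : Subgroup (GL ι F)} (hc : IsResidualCore H P) {T : Type} [Group T]
    (e : (P ⧸ (scalars ι F).subgroupOf P) ≃* T) {x : GL ι F} (hx : x ∈ H) : ∃ y : MulAut T, orderOf y = orderOf x := by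
  obtain ⟨f, hf⟩ := res_hom hF hc e
  refine ⟨f ⟨x, hx⟩, ?_⟩
  rw [orderOf_injective f hf, Subgroup.orderOf_mk]

theorem card_aut_l33 : Nat.card (MulAut (Matrix.ProjectiveSpecialLinearGroup (Fin 3) (ZMod 3))) ∣ 22464 := by
  have : Fact (Nat.Prime 3) := ⟨Nat.prime_three⟩
  rw [S0813.result 3 1 le_rfl (by rw [ZMod.card, pow_one]) 3 (by norm_num) (fun h => absurd h (by norm_num)),
    if_neg (by norm_num), mul_one]
  have h1 : Nat.card (Matrix.ProjGenLinGroup (Fin 3) (ZMod 3)) ∣ 11232 := by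
    have h2 : Nat.card (GL (Fin 3) (ZMod 3)) = 11232 := by
      rw [Matrix.card_GL_field]
      simp only [Fin.prod_univ_three, ZMod.card, _root_.Nat.reducePow, _root_.Fin.isValue, _root_.Fin.coe_ofNat_eq_mod, _root_.Nat.zero_mod, _root_.pow_zero, _root_.Nat.add_one_sub_one, _root_.Nat.one_mod, _root_.pow_one, _root_.Nat.reduceSub, _root_.Nat.reduceMul, _root_.Nat.mod_succ]
    rw [← h2]
    exact Subgroup.card_quotient_dvd_card _
  exact mul_dvd_mul_left 2 h1

theorem l33_kill (hF : Fintype.card F = 2) {H P : Subgroup (GL ι F)} (hc : IsResidualCore H P)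
    (e : (P ⧸ (scalars ι F).subgroupOf P) ≃* Matrix.ProjectiveSpecialLinearGroup (Fin 3) (ZMod 3)) {x : GL ι F}
    (hx : x ∈ H) (h : orderOf x = 11 ∨ orderOf x = 31) : False := by
  obtain ⟨y, hy⟩ := res_order hF hc e hx
  have h1 := (orderOf_dvd_natCard y).trans card_aut_l33
  rw [hy] at h1
  rcases h with h | h <;> rw [h] at h1 <;> norm_num at h1

/-- no permutation of 13 letters has order 33 -/
theorem perm_33 (σ : Equiv.Perm (Fin 13)) : orderOf σ ≠ 33 := by
  intro h
  have h1 : 11 ∣ σ.cycleType.lcm := by rw [Equiv.Perm.lcm_cycleType, h]; norm_num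
  have h2 : 3 ∣ σ.cycleType.lcm := by rw [Equiv.Perm.lcm_cycleType, h]; norm_num
  have key : ∀ (s : Multiset ℕ) (p : ℕ), p.Prime → p ∣ s.lcm → ∃ a ∈ s, p ∣ a := by
    intro s p hp
    induction s using Multiset.induction_on with
    | empty => intro h; rw [Multiset.lcm_zero] at h; exact absurd (Nat.dvd_one.1 h) hp.one_lt.ne'
    | cons a s ih =>
      intro h
      rw [Multiset.lcm_cons] at h
      rcases (Nat.Prime.dvd_mul hp).1 (h.trans (Nat.lcm_dvd_mul _ _)) with h | h
      · exact ⟨a, Multiset.mem_cons_self _ _, h⟩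
      · obtain ⟨b, hb, hd⟩ := ih h
        exact ⟨b, Multiset.mem_cons_of_mem hb, hd⟩
  obtain ⟨a, ha, had⟩ := key _ 11 (by norm_num) h1
  obtain ⟨b, hb, hbd⟩ := key _ 3 (by norm_num) h2
  have hsum : σ.cycleType.sum ≤ 13 := by
    rw [Equiv.Perm.sum_cycleType]
    exact (Finset.card_le_univ _).trans (by rw [Fintype.card_fin])
  have ha2 := Equiv.Perm.two_le_of_mem_cycleType ha
  have hb2 := Equiv.Perm.two_le_of_mem_cycleType hb
  have ha13 : a ≤ 13 := (Multiset.le_sum_of_mem ha).trans hsum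
  have ha11 : a = 11 := by omega
  have hne : b ≠ a := by
    rintro rfl
    omega
  obtain ⟨s, hs⟩ := Multiset.exists_cons_of_mem ha
  rw [hs, Multiset.mem_cons] at hb
  have hb' := hb.resolve_left hne
  have h3 := Multiset.le_sum_of_mem hb'
  rw [hs, Multiset.sum_cons] at hsum
  omega

theorem a13_kill (hF : Fintype.card F = 2) {H P : Subgroup (GL ι F)} (hc : IsResidualCore H P)
    (e : (P ⧸ (scalars ι F).subgroupOf P) ≃* alternatingGroup (Fin 13)) {x : GL ι F}
    (hx : x ∈ H) (h : orderOf x = 31 ∨ orderOf x = 33) : False := by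
  obtain ⟨y, hy⟩ := res_order hF hc e hx
  obtain ⟨σ, rfl⟩ := (S2119.result 13 (by norm_num) (by norm_num)).2 y
  rw [orderOf_injective _ (S2119.result 13 (by norm_num) (by norm_num)).1] at hy
  rcases h with h | h
  · have h1 := orderOf_dvd_natCard σ
    rw [hy, h, Nat.card_perm, Nat.card_fin, (by norm_num : Nat.Prime 31).dvd_factorial] at h1
    omega
  · exact perm_33 σ (hy.trans h)

end Cfsg.Agent.H989.Cov
end

-- part: H989/Cov/Twelve
section
/-!
# S2499, `Ω^±_12(2)`: the frame (helper989)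

* `cases_minus`, `cases_plus` : the maximal subgroups over the field with two elements;
* `noTwo_omega_minus`, `noTwo_omega_plus` : `NoTwo (Omega F Q)` for forms on `F^12`, given the residual lists.
-/

set_option autoImplicit false
set_option linter.unusedSectionVars false
set_option linter.style.haveILetI false

namespace Cfsg.Agent.H989.Cov

open Module Cfsg Cfsg.Geo QuadraticMap
open Cfsg.Agent.LieClassical.OrthCore Cfsg.Agent.LieClassical.OrthForms
open Cfsg.Agent.H182.Sign
open Cfsg.Agent.H278.Cov (Red Av Inc NoTwo noTwo_of_three)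
open Cfsg.Agent.H383.Cov
open scoped MatrixGroups Matrix

variable {F : Type} [Field F] [Fintype F]

/-! ### Types -/

theorem nondeg_form {ι : Type} [Fintype ι] [DecidableEq ι] {Q : QuadraticForm F (ι → F)} (hQ : Nondeg Q) :
    IsNondegenerateQuadraticForm (⇑Q) where
  smul c v := by rw [QuadraticMap.map_smul, smul_eq_mul, pow_two]
  polar_bilinear :=
    { add_left := fun x y v => polar_add_left Q x y v
      smul_left := fun c x v => by rw [polar_smul_left, smul_eq_mul]
      add_right := fun v x y => polar_add_right Q v x y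
      smul_right := fun c v x => by rw [polar_smul_right, smul_eq_mul] }
  nondegenerate := by
    intro v hv
    have h1 : ∃ y, polar Q v y ≠ 0 := by
      by_contra hcon
      push Not at hcon
      exact hv (hQ v hcon)
    obtain ⟨y, hy⟩ := h1
    exact ⟨⟨y, by rw [polar_comm]; exact hy⟩, ⟨y, hy⟩⟩

theorem plus_of_sg {Q : QuadraticForm F (Fin 12 → F)} (hs : Sg Q 6 1) : IsPlusTypeOn (⇑Q) ⊤ := by
  obtain ⟨e, he⟩ := Sg.exists_equiv (sg_plusForm (F := F) 6) hs
  have h1 : H955.IsPlus Q := by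
    apply H955.IsPlus.of_equiv (Q := LieClassical.QuadForms.plusForm 6 F) e _ (H955.isPlus_plus 6)
    intro v
    rw [he, H403.Classify.plusForm_eq]
  obtain ⟨U, hU0, hd⟩ := h1
  exact ⟨U, le_top, fun u hu => hU0 u hu, by rw [finrank_top]; exact hd⟩

theorem not_plus_of_sg {Q : QuadraticForm F (Fin 12 → F)} (hs : Sg Q 6 (-1)) : ¬ IsPlusTypeOn (⇑Q) ⊤ := by
  rintro ⟨U, -, hU0, hd⟩
  have h1 : H955.IsPlus Q := ⟨U, fun u hu => hU0 u hu, by rw [hd, finrank_top]⟩
  obtain ⟨e, he⟩ := H955.exists_plus_equiv 6 Q hs.nondeg hs.dim h1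
  have h2 : Sg Q 6 1 := by
    refine (sg_plusForm (F := F) 6).congr e.symm fun v => ?_
    rw [← he, e.apply_symm_apply, H403.Classify.plusForm_eq]
  have h3 := (hs.sign.unique h2.sign hs.eps h2.eps).2
  norm_num at h3

/-! ### The maximal subgroups -/

/-- the cases needed for the maximal subgroups of `Ω^±_12(2)` -/
def Cas (H : Subgroup (GL (Fin 12) F)) : Prop :=
  Red H ∨
  (∃ (t m : ℕ) (D : Fin t → Submodule F (Fin 12 → F)), t ≤ 6 ∧ m ≤ 6 ∧ IsMDecomposition m D ∧
    H ≤ decompositionStabilizer D) ∨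
  (∃ (r : ℕ) (K : Subalgebra F (Matrix (Fin 12) (Fin 12) F)), (r = 2 ∨ r = 3) ∧ IsFieldSubalgebra r K ∧
    H ≤ subalgebraNormalizer K)

theorem red_of {Q : (Fin 12 → F) → F} {H : Subgroup (GL (Fin 12) F)} {W : Submodule F (Fin 12 → F)}
    (h1 : finrank F W ≠ 0) (h2 : finrank F W ≠ 12) (hH : H = subspaceStabilizer W ⊓ omegaGL Q) : Red H := by
  refine ⟨W, ?_, ?_, by rw [hH]; exact inf_le_left⟩
  · rintro rfl
    exact h1 (finrank_bot F _)
  · rintro rfl
    apply h2
    rw [finrank_top, Module.finrank_fintype_fun_eq_card, Fintype.card_fin]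

theorem red_ts {Q : (Fin 12 → F) → F} (hQ : IsNondegenerateQuadraticForm Q) {H : Subgroup (GL (Fin 12) F)}
    {W : Submodule F (Fin 12 → F)} (h1 : W ≠ ⊥) (h2 : IsTotallySingularQuad Q W)
    (hH : H = subspaceStabilizer W ⊓ omegaGL Q) : Red H := by
  refine ⟨W, h1, ?_, by rw [hH]; exact inf_le_left⟩
  rintro rfl
  have h3 : ∀ v, Q v = 0 := fun v => h2 v trivial
  have h4 : (Pi.single 0 1 : Fin 12 → F) ≠ 0 := by
    intro h
    have := congrFun h 0
    simp at this
  obtain ⟨⟨x, hx⟩, -⟩ := hQ.nondegenerate _ h4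
  apply hx
  rw [QuadraticMap.polar, h3, h3, h3, sub_zero, sub_zero]

theorem red_ns {Q : (Fin 12 → F) → F} (hQ : IsNondegenerateQuadraticForm Q) {H : Subgroup (GL (Fin 12) F)}
    {v : Fin 12 → F} (hv : Q v ≠ 0) (hH : H = subspaceStabilizer (Submodule.span F {v}) ⊓ omegaGL Q) : Red H := by
  have h0 : v ≠ 0 := by
    rintro rfl
    apply hv
    have := hQ.smul 0 0
    rwa [zero_smul, zero_pow two_ne_zero, zero_mul] at this
  have h1 : finrank F (Submodule.span F {v}) = 1 := finrank_span_singleton h0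
  exact red_of (by rw [h1]; norm_num) (by rw [h1]; norm_num) hH

theorem cases_minus (hF : Fintype.card F = 2) {Q : (Fin 12 → F) → F} (hQ : IsNondegenerateQuadraticForm Q)
    (hminus : ¬ IsPlusTypeOn Q ⊤) {H : Subgroup (GL (Fin 12) F)} (hH : IsMaximalIn (omegaGL Q) H) :
    Cas H ∨ InOrthogonalResidualClass H := by
  rcases S5874.result Q hQ hminus H hH with h | h | h | h | h | h | h | h | h | h | h | h | h
  · obtain ⟨W, h1, h2, h3⟩ := h
    exact Or.inl (Or.inl (red_ts hQ h1 h2 h3))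
  · exact absurd h.1 (by rw [hF]; decide)
  · obtain ⟨W, h1, -, -, h3⟩ := h
    exact Or.inl (Or.inl (red_of (by rw [h1]; norm_num) (by rw [h1]; norm_num) h3))
  · exact absurd h.1 (by rw [hF]; norm_num)
  · obtain ⟨W, h1, -, h3⟩ := h
    exact Or.inl (Or.inl (red_of (by rw [h1]; norm_num) (by rw [h1]; norm_num) h3))
  · obtain ⟨W, h1, -, h3⟩ := h
    exact Or.inl (Or.inl (red_of (by rw [h1]; norm_num) (by rw [h1]; norm_num) h3))
  · obtain ⟨-, v, h1, h3⟩ := h
    exact Or.inl (Or.inl (red_ns hQ h1 h3))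
  · obtain ⟨D, h1, -, h3⟩ := h
    exact Or.inl (Or.inr (Or.inl ⟨3, 4, D, by norm_num, by norm_num, h1.decomp.decomp, by rw [h3]; exact inf_le_left⟩))
  · obtain ⟨K, h1, h3⟩ := h
    exact Or.inl (Or.inr (Or.inr ⟨2, K, Or.inl rfl, h1, by rw [h3]; exact inf_le_left⟩))
  · obtain ⟨K, h1, h3⟩ := h
    exact Or.inl (Or.inr (Or.inr ⟨3, K, Or.inr rfl, h1, by rw [h3]; exact inf_le_left⟩))
  · exact absurd h.1 (by rw [hF]; decide)
  · obtain ⟨F₀, r, P, ζ, hr, -, h1, -⟩ := h
    exfalso
    rw [hF] at h1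
    have h2 : Nat.Prime (Nat.card F₀ ^ r) := by rw [← h1]; norm_num
    exact Nat.Prime.not_prime_pow hr.two_le h2
  · exact Or.inr h

theorem cases_plus (hF : Fintype.card F = 2) {Q : (Fin 12 → F) → F} (hQ : IsNondegenerateQuadraticForm Q)
    (hplus : IsPlusTypeOn Q ⊤) {H : Subgroup (GL (Fin 12) F)} (hH : IsMaximalIn (omegaGL Q) H) :
    Cas H ∨ InOrthogonalResidualClass H := by
  rcases S5871.result Q hQ hplus H hH with
    h | h | h | h | h | h | h | h | h | h | h | h | h | h | h | h | h | h | h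
  · obtain ⟨W, h1, h2, -, h3⟩ := h
    exact Or.inl (Or.inl (red_ts hQ h1 h2 h3))
  · exact absurd h.1 (by rw [hF]; decide)
  · obtain ⟨W, h1, -, -, h3⟩ := h
    exact Or.inl (Or.inl (red_of (by rw [h1]; norm_num) (by rw [h1]; norm_num) h3))
  · exact absurd h.1 (by rw [hF]; norm_num)
  · obtain ⟨W, h1, -, h3⟩ := h
    exact Or.inl (Or.inl (red_of (by rw [h1]; norm_num) (by rw [h1]; norm_num) h3))
  · obtain ⟨-, v, h1, h3⟩ := h
    exact Or.inl (Or.inl (red_ns hQ h1 h3))
  · obtain ⟨⟨p, h1, h2, h3⟩, -⟩ := h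
    exfalso
    rw [hF] at h3
    rw [← h3] at h2
    exact absurd h2 (by decide)
  · exact absurd h.1 (by rw [hF]; norm_num)
  · obtain ⟨-, D, h1, -, h3⟩ := h
    exact Or.inl (Or.inr (Or.inl ⟨6, 2, D, by norm_num, by norm_num, h1.decomp.decomp, by rw [h3]; exact inf_le_left⟩))
  · exact absurd h.1 (by rw [hF]; decide)
  · exact absurd h.1 (by rw [hF]; norm_num)
  · obtain ⟨D, h1, h3⟩ := h
    exact Or.inl (Or.inr (Or.inl ⟨2, 6, D, by norm_num, by norm_num, h1.decomp.decomp, by rw [h3]; exact inf_le_left⟩))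
  · obtain ⟨D, h1, -, h3⟩ := h
    exact Or.inl (Or.inr (Or.inl ⟨2, 6, D, by norm_num, by norm_num, h1, by rw [h3]; exact inf_le_left⟩))
  · obtain ⟨K, h1, h3⟩ := h
    exact Or.inl (Or.inr (Or.inr ⟨2, K, Or.inl rfl, h1, by rw [h3]; exact inf_le_left⟩))
  · obtain ⟨K, h1, h3⟩ := h
    exact Or.inl (Or.inr (Or.inr ⟨3, K, Or.inr rfl, h1, by rw [h3]; exact inf_le_left⟩))
  · obtain ⟨K, h1, -, -, -, h3⟩ := h
    exact Or.inl (Or.inr (Or.inr ⟨2, K, Or.inl rfl, h1, by rw [h3]; exact inf_le_left⟩))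
  · exact absurd h.1 (by rw [hF]; norm_num)
  · obtain ⟨F₀, r, P, ζ, hr, h1, -⟩ := h
    exfalso
    rw [hF] at h1
    have h2 : Nat.Prime (Nat.card F₀ ^ r) := by rw [← h1]; norm_num
    exact Nat.Prime.not_prime_pow hr.two_le h2
  · exact Or.inr h

/-! ### Kills -/

/-- an element with a block of dimension `k`, of prime order -/
structure Bp (k : ℕ) (x : GL (Fin 12) F) : Prop where
  prime : (orderOf x).Prime
  big : 6 < orderOf x
  blk : Blk k x

theorem Bp.conj {k : ℕ} {x : GL (Fin 12) F} (h : Bp k x) (g : GL (Fin 12) F) : Bp k (g * x * g⁻¹) :=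
  ⟨by rw [orderOf_conj]; exact h.prime, by rw [orderOf_conj]; exact h.big, h.blk.conj g⟩

theorem Bp.coprime {k : ℕ} {x : GL (Fin 12) F} (h : Bp k x) {r : ℕ} (hr : r = 2 ∨ r = 3) : (orderOf x).Coprime r := by
  have h1 := h.big
  rcases hr with rfl | rfl
  · exact (Nat.coprime_primes h.prime Nat.prime_two).2 (by omega)
  · exact (Nat.coprime_primes h.prime Nat.prime_three).2 (by omega)

/-- the cases of decompositions and fields of degree three -/
theorem kill_dec {k : ℕ} (hk : 6 < k) {x : GL (Fin 12) F} (hx : Bp k x) {H : Subgroup (GL (Fin 12) F)} (hxH : x ∈ H)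
    {t m : ℕ} {D : Fin t → Submodule F (Fin 12 → F)} (ht : t ≤ 6) (hm : m ≤ 6) (hD : IsMDecomposition m D)
    (hH : H ≤ decompositionStabilizer D) : False :=
  dec_kill hD (hH hxH) hx.prime (lt_of_le_of_lt ht hx.big) hx.blk (lt_of_le_of_lt hm hk)

/-- `Cas` and two blocks of different parity -/
theorem cas_parity {Q : (Fin 12 → F) → F} (hQ : IsNondegenerateQuadraticForm Q) {H : Subgroup (GL (Fin 12) F)}
    (hHQ : H ≤ isometryGroup F Q) (hR : ¬ Red H) (hc : Cas H) {a b : ℕ} {x y : GL (Fin 12) F} (hx : x ∈ H) (hy : y ∈ H)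
    (ha : Even a) (hb : Odd b) (hb5 : 3 < b) (ha3 : 1 ≤ a) (hb3 : ¬ 3 ∣ 2 * b) (bx : Bp (2 * a) x) (bY : Bp (2 * b) y)
    (hMx : orderOf x ∣ Nat.card F ^ a + 1) (hMy : orderOf y ∣ Nat.card F ^ b + 1) : False := by
  rcases hc with h | ⟨t, m, D, ht, hm, hD, hH⟩ | ⟨r, K, hr, hK, hH⟩
  · exact hR h
  · exact kill_dec (by omega) bY hy ht hm hD hH
  · rcases hr with rfl | rfl
    · exact parity hQ hHQ hR hK hH hx hy ha3 (by omega) ha hb
        (bx.prime.eq_two_or_odd'.resolve_left (by have := bx.big; omega))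
        (bY.prime.eq_two_or_odd'.resolve_left (by have := bY.big; omega)) hMx hMy bx.blk bY.blk
    · exact fld_kill hK (hH hy) (bY.coprime (Or.inr rfl)) (by rw [bY.blk.rk]; exact hb3)

/-- `Cas`, a large block and an element of type `pos 5` -/
theorem cas_zd {H : Subgroup (GL (Fin 12) F)} (hR : ¬ Red H) (hc : Cas H) {k : ℕ} {x z : GL (Fin 12) F} (hx : x ∈ H)
    (hz : z ∈ H) (hk : 6 < k) (bx : Bp k x) (hzd : Zd z) : False := by
  obtain ⟨j, h1, P, h2⟩ := hzd
  rcases hc with h | ⟨t, m, D, ht, hm, hD, hH⟩ | ⟨r, K, hr, hK, hH⟩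
  · exact hR h
  · exact kill_dec hk bx hx ht hm hD hH
  · have h3 := kill hK (hH (H.pow_mem hz j)) (by rw [h1]; rcases hr with rfl | rfl <;> norm_num) P
    rw [h2] at h3
    rcases hr with rfl | rfl <;> norm_num at h3

/-! ### The main theorems -/

/-- the residual class of `Ω^-_12(2)` -/
def ResM (Q : (Fin 12 → F) → F) : Prop :=
  ∀ H : Subgroup (GL (Fin 12) F), IsMaximalIn (omegaGL Q) H → InOrthogonalResidualClass H →
    ∃ P : Subgroup (GL (Fin 12) F), IsResidualCore H P ∧
      (Nonempty ((P ⧸ (scalars (Fin 12) F).subgroupOf P) ≃* Matrix.ProjectiveSpecialLinearGroup (Fin 3) (ZMod 3)) ∨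
        Nonempty ((P ⧸ (scalars (Fin 12) F).subgroupOf P) ≃* alternatingGroup (Fin 13)))

/-- the residual class of `Ω^+_12(2)` is empty -/
def ResP (Q : (Fin 12 → F) → F) : Prop :=
  ∀ H : Subgroup (GL (Fin 12) F), IsMaximalIn (omegaGL Q) H → ¬ InOrthogonalResidualClass H

theorem le_isom {Q : (Fin 12 → F) → F} {H : Subgroup (GL (Fin 12) F)} (hH : IsMaximalIn (omegaGL Q) H) :
    H ≤ isometryGroup F Q := hH.1.le.trans (omegaGL_le Q)

theorem noTwo_omega_minus (hF : Fintype.card F = 2) {Q : QuadraticForm F (Fin 12 → F)} (hs : Sg Q 6 (-1))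
    (hres : ResM ⇑Q) : NoTwo (Omega F ⇑Q) := by
  have hQ := nondeg_form hs.nondeg
  have hm := not_plus_of_sg hs
  have hFc : Nat.card F = 2 := by rw [Nat.card_eq_fintype_card, hF]
  obtain ⟨A, hA, a1, a2, a3⟩ := mA hF hs
  obtain ⟨B, hB, b0, ⟨b1, b2⟩, b3, b4⟩ := mB hF hs
  obtain ⟨C, hC, c1, c2, c3⟩ := mC hF hs
  have bA : Bp 12 A := ⟨by rw [a1]; norm_num, by rw [a1]; norm_num, a2⟩
  have bB : Bp 10 (B ^ 3) := ⟨by rw [b1]; norm_num, by rw [b1]; norm_num, b2⟩
  obtain ⟨A', rfl⟩ : ∃ A', emb ⇑Q A' = A := by rw [← range_emb] at hA; exact hA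
  obtain ⟨B', rfl⟩ : ∃ B', emb ⇑Q B' = B := by rw [← range_emb] at hB; exact hB
  obtain ⟨C', rfl⟩ : ∃ C', emb ⇑Q C' = C := by rw [← range_emb] at hC; exact hC
  have hz31 : ∀ {z : GL (Fin 12) F}, Zd z → ∃ j, orderOf (z ^ j) = 31 := fun ⟨j, h, _⟩ => ⟨j, h⟩
  refine noTwo_of_three (x := A') (y := B') (z := C') (inc_of_max fun H hmax g hg g' hg' h1 h2 => ?_)
    (inc_of_max fun H hmax g hg g' hg' h1 h2 => ?_) (inc_of_max fun H hmax g hg g' hg' h1 h2 => ?_)
  · -- 13 and 33
    have hR : ¬ Red H := fun hR => red_dims hR h1 h2 (a3.conj g) (b3.conj g') (by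
      intro d d0 d1 d2 d3
      rw [Fintype.card_fin] at d1
      simp only [Set.mem_insert_iff, Set.mem_singleton_iff] at d2
      omega)
    have h3 := H.pow_mem h2 3
    rw [conj_pow] at h3
    rcases cases_minus hF hQ hm hmax with hc | hc
    · exact cas_parity hQ (le_isom hmax) hR hc (a := 6) (b := 5) h1 h3 (by decide) (by decide) (by norm_num)
        (by norm_num) (by norm_num) (bA.conj g) (bB.conj g') (by rw [orderOf_conj, a1, hFc]; norm_num)
        (by rw [orderOf_conj, b1, hFc]; norm_num)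
    · obtain ⟨P, hP, ⟨⟨e⟩⟩ | ⟨⟨e⟩⟩⟩ := hres H hmax hc
      · exact l33_kill hF hP e h3 (Or.inl (by rw [orderOf_conj, b1]))
      · exact a13_kill hF hP e h2 (Or.inr (by rw [orderOf_conj, b0]))
  · -- 33 and 93
    have hR : ¬ Red H := fun hR => red_two hs.nondeg hR (le_isom hmax) h1 h2 (b3.conj g) (c2.conj g')
      (b4.conj (omegaGL_le _ hg)) (c3.conj (omegaGL_le _ hg')) (by
        intro d d0 d1 d2 d3
        rw [Fintype.card_fin] at d1 ⊢
        simp only [Set.mem_ofPred_eq] at d2 d3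
        omega)
    have h3 := H.pow_mem h1 3
    rw [conj_pow] at h3
    rcases cases_minus hF hQ hm hmax with hc | hc
    · exact cas_zd hR hc h3 h2 (by norm_num) (bB.conj g) (c1.conj g')
    · obtain ⟨j, hj⟩ := hz31 (c1.conj g')
      have h4 := H.pow_mem h2 j
      obtain ⟨P, hP, ⟨⟨e⟩⟩ | ⟨⟨e⟩⟩⟩ := hres H hmax hc
      · exact l33_kill hF hP e h4 (Or.inr hj)
      · exact a13_kill hF hP e h4 (Or.inl hj)
  · -- 13 and 93
    have hR : ¬ Red H := fun hR => red_dims hR h1 h2 (a3.conj g) (c2.conj g') (by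
      intro d d0 d1 d2 d3
      rw [Fintype.card_fin] at d1
      simp only [Set.mem_insert_iff, Set.mem_singleton_iff] at d2
      omega)
    rcases cases_minus hF hQ hm hmax with hc | hc
    · exact cas_zd hR hc h1 h2 (by norm_num) (bA.conj g) (c1.conj g')
    · obtain ⟨j, hj⟩ := hz31 (c1.conj g')
      have h4 := H.pow_mem h2 j
      obtain ⟨P, hP, ⟨⟨e⟩⟩ | ⟨⟨e⟩⟩⟩ := hres H hmax hc
      · exact l33_kill hF hP e h4 (Or.inr hj)
      · exact a13_kill hF hP e h4 (Or.inl hj)

theorem noTwo_omega_plus (hF : Fintype.card F = 2) {Q : QuadraticForm F (Fin 12 → F)} (hs : Sg Q 6 1)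
    (hres : ResP ⇑Q) : NoTwo (Omega F ⇑Q) := by
  have hQ := nondeg_form hs.nondeg
  have hp := plus_of_sg hs
  have hFc : Nat.card F = 2 := by rw [Nat.card_eq_fintype_card, hF]
  obtain ⟨A, hA, ⟨i, a1, a2⟩, a3, a4⟩ := pN hF hs (a := 5) (b := 1) (M := 11) (N := 3) (by norm_num) (by norm_num)
    (by norm_num) (by norm_num) (by norm_num) (by decide) (by decide) (by norm_num) bn_11
    (by intro j h1 h2; interval_cases j <;> norm_num) (by intro j h1 h2; interval_cases j; norm_num)
  obtain ⟨B, hB, ⟨j, b1, b2⟩, b3, -⟩ := pN hF hs (a := 4) (b := 2) (M := 17) (N := 5) (by norm_num) (by norm_num)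
    (by norm_num) (by norm_num) (by norm_num) (by decide) (by decide) (by norm_num) bn_17
    (by intro j h1 h2; interval_cases j <;> norm_num) (by intro j h1 h2; interval_cases j <;> norm_num)
  obtain ⟨C, hC, c1, c2, c3⟩ := pC hF hs
  have bA : Bp 10 (A ^ i) := ⟨by rw [a1]; norm_num, by rw [a1]; norm_num, a2⟩
  have bB : Bp 8 (B ^ j) := ⟨by rw [b1]; norm_num, by rw [b1]; norm_num, b2⟩
  obtain ⟨A', rfl⟩ : ∃ A', emb ⇑Q A' = A := by rw [← range_emb] at hA; exact hA
  obtain ⟨B', rfl⟩ : ∃ B', emb ⇑Q B' = B := by rw [← range_emb] at hB; exact hB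
  obtain ⟨C', rfl⟩ : ∃ C', emb ⇑Q C' = C := by rw [← range_emb] at hC; exact hC
  have hcas : ∀ {H : Subgroup (GL (Fin 12) F)}, IsMaximalIn (omegaGL ⇑Q) H → Cas H := fun {H} hmax =>
    (cases_plus hF hQ hp hmax).resolve_right (hres H hmax)
  refine noTwo_of_three (x := A') (y := B') (z := C') (inc_of_max fun H hmax g hg g' hg' h1 h2 => ?_)
    (inc_of_max fun H hmax g hg g' hg' h1 h2 => ?_) (inc_of_max fun H hmax g hg g' hg' h1 h2 => ?_)
  · -- 11 and 17
    have hR : ¬ Red H := fun hR => red_dims hR h1 h2 (a3.conj g) (b3.conj g') (by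
      intro d d0 d1 d2 d3
      rw [Fintype.card_fin] at d1
      simp only [Set.mem_ofPred_eq] at d2 d3
      omega)
    have h3 := H.pow_mem h1 i
    have h4 := H.pow_mem h2 j
    rw [conj_pow] at h3 h4
    exact cas_parity hQ (le_isom hmax) hR (hcas hmax) (a := 4) (b := 5) h4 h3 (by decide) (by decide) (by norm_num)
      (by norm_num) (by norm_num) (bB.conj g') (bA.conj g) (by rw [orderOf_conj, b1, hFc]; norm_num)
      (by rw [orderOf_conj, a1, hFc]; norm_num)
  · -- 17 and 31
    have hR : ¬ Red H := fun hR => red_dims hR h1 h2 (b3.conj g) (c2.conj g') (by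
      intro d d0 d1 d2 d3
      rw [Fintype.card_fin] at d1
      simp only [Set.mem_ofPred_eq] at d2 d3
      omega)
    have h3 := H.pow_mem h1 j
    rw [conj_pow] at h3
    exact cas_zd hR (hcas hmax) h3 h2 (by norm_num) (bB.conj g) (c1.conj g')
  · -- 11 and 31
    have hR : ¬ Red H := fun hR => red_two hs.nondeg hR (le_isom hmax) h2 h1 (c2.conj g') (a3.conj g)
      (c3.conj (omegaGL_le _ hg')) ((a4 rfl).conj (omegaGL_le _ hg)) (by
        intro d d0 d1 d2 d3
        rw [Fintype.card_fin] at d1 ⊢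
        simp only [Set.mem_ofPred_eq] at d2 d3
        omega)
    have h3 := H.pow_mem h1 i
    rw [conj_pow] at h3
    exact cas_zd hR (hcas hmax) h3 h2 (by norm_num) (bA.conj g) (c1.conj g')

end Cfsg.Agent.H989.Cov
end

private theorem dce_e8623f6e70b5 : _root_.True := by
  try have : _root_.True := by simp only [_root_.Cfsg.Agent.H989.Cov.prp.eq_1]
  exact _root_.True.intro
end

-- part: H257/Cov/Tools
section
prune_inst 0x20304040004000000018009611002044080005b000200001d9e0050200065723a001294148a01e14131aa26140090008110000590050000024000200411c000000297286833cad0c30000080b087180c00000000000000000000000000041004000000000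
set_option linter.all false
open scoped Cfsg.Agent.FastGrp

-- part: H257/Cov/Index
section
/-!
# The index of the simple group at the top, for an isolated prime (helper257)

`E n r = (n / r) % r` : for a group of order `n` in which `r ∥ n` is adjacent to no prime, `|N(⟨x⟩)| = r E`.

* `index_mul_eq`, `index_eq` : `E |R/O| = E |N| * [R/O : N]` (`E |R/O| = [R/O : N]` if `|N| = r`)
* `E_dvd` : `E |R| ∣ E |T|` for `R ≤ T`; `E_quot` : `E |R| = E |R/O|`
* `Top.index_dvd_E` : `E |N| * [R/O : N] ∣ E |T|`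
-/

set_option autoImplicit false

namespace Cfsg.Agent.H257.Cov

open Subgroup
open Cfsg.Agent.H257.El

/-- the residue of `n / r` modulo `r` -/
def E (n r : ℕ) : ℕ := (n / r) % r

/-- `r` is adjacent to no prime -/
def Isol (T : Type*) [Group T] (r : ℕ) : Prop := ∀ p : ℕ, p.Prime → r ≠ p → ∀ z : T, orderOf z ≠ r * p

section

variable {R : Type*} [Group R] [Finite R] {r : ℕ} {O : Subgroup R} [O.Normal] {N : Subgroup (R ⧸ O)}

theorem index_mul_eq (h : Top R r O N) (hno : Isol R r) (hne : Nat.card N ≠ r) :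
    E (Nat.card N) r * N.index = E (Nat.card (R ⧸ O)) r := by
  have hN := h.normal
  have hr' : Fact r.Prime := ⟨h.prime⟩
  have hnoQ : ∀ p : ℕ, p.Prime → r ≠ p → ∀ z : R ⧸ O, orderOf z ≠ r * p :=
    fun p hp hrp => Top.noQuot O (hno p hp hrp)
  have hnoN : ∀ p : ℕ, p.Prime → r ≠ p → ∀ z : N, orderOf z ≠ r * p := fun p hp hrp z => by
    rw [← Subgroup.orderOf_coe]
    exact hnoQ p hp hrp z
  have hN2 : ¬ r ^ 2 ∣ Nat.card N := fun h2 => h.sq' (h2.trans (Subgroup.card_subgroup_dvd_card N))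
  obtain ⟨y, hy⟩ := exists_prime_orderOf_dvd_card' (G := N) r h.dvd
  have hy' : orderOf (y : R ⧸ O) = r := by rw [Subgroup.orderOf_coe, hy]
  obtain ⟨h1, -⟩ := card_norm_mod h.prime hN2 hne (card_cent_of_noOrd h.prime hN2 hnoN hy)
  have hneQ : Nat.card (R ⧸ O) ≠ r := by
    intro h3
    have h4 := Subgroup.card_subgroup_dvd_card N
    rw [h3] at h4
    rcases (Nat.dvd_prime h.prime).1 h4 with h5 | h5
    · have h6 := h.dvd
      rw [h5] at h6
      exact h.prime.one_lt.ne' (Nat.dvd_one.1 h6)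
    · exact hne h5
  obtain ⟨h3, h4⟩ := card_norm_mod h.prime h.sq' hneQ (card_cent_of_noOrd h.prime h.sq' hnoQ hy')
  -- the Frattini argument
  have hPy : IsPGroup r (zpowers y) :=
    IsPGroup.of_card (n := 1) (by rw [Nat.card_zpowers, hy, pow_one])
  obtain ⟨P, hP⟩ := hPy.exists_le_sylow
  have hPc : Nat.card P = r := by
    have h5 := Top.card_sylow_of P (a := 1) (by rw [pow_one]; exact h.dvd) hN2
    rwa [pow_one] at h5
  have hPe : zpowers y = P := by
    apply Subgroup.eq_of_le_of_card_ge hP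
    rw [hPc, Nat.card_zpowers, hy]
  have hmap : (P : Subgroup N).map N.subtype = zpowers (y : R ⧸ O) := by
    rw [← hPe, MonoidHom.map_zpowers]
    rfl
  have hfr := Sylow.normalizer_sup_eq_top P
  rw [hmap] at hfr
  set M := normalizer ((zpowers (y : R ⧸ O) : Subgroup (R ⧸ O)) : Set (R ⧸ O)) with hM
  have h5 : N.relIndex (M ⊔ N) = N.relIndex M := Subgroup.relIndex_sup_right _ _
  rw [hfr, Subgroup.relIndex_top_right] at h5
  have h6 := Subgroup.card_mul_index (N.subgroupOf M)
  have h7 : (N.subgroupOf M).index = N.index := h5.symm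
  -- `N ∩ M` is the normaliser in `N`
  have hmem : ∀ w : N, w ∈ zpowers y ↔ (w : R ⧸ O) ∈ zpowers (y : R ⧸ O) := by
    intro w
    rw [mem_zpowers_iff, mem_zpowers_iff]
    constructor
    · rintro ⟨j, hj⟩
      exact ⟨j, congrArg Subtype.val hj⟩
    · rintro ⟨j, hj⟩
      exact ⟨j, Subtype.ext hj⟩
  have hyN : ∀ w ∈ zpowers (y : R ⧸ O), w ∈ N := by
    intro w hw
    obtain ⟨j, rfl⟩ := mem_zpowers_iff.1 hw
    exact zpow_mem y.2 j
  have h8 : normalizer ((zpowers y : Subgroup N) : Set N) = M.subgroupOf N := by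
    ext w
    rw [mem_subgroupOf, mem_normalizer_iff, hM, mem_normalizer_iff]
    constructor
    · intro hh v
      constructor
      · intro hv
        exact (hmem _).1 ((hh ⟨v, hyN v hv⟩).1 ((hmem _).2 hv))
      · intro hv
        have hvN : v ∈ N := by
          have h9 := mul_mem (mul_mem (inv_mem w.2) (hyN _ hv)) w.2
          rwa [show (w : R ⧸ O)⁻¹ * ((w : R ⧸ O) * v * (w : R ⧸ O)⁻¹) * w = v by group] at h9
        exact (hmem _).1 ((hh ⟨v, hvN⟩).2 ((hmem _).2 hv))
    · intro hh v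
      rw [hmem, hmem]
      exact hh v
  have h9 : Nat.card (M.subgroupOf N) = Nat.card (N.subgroupOf M) := by
    have e1 : Nat.card (M.subgroupOf N) = Nat.card (N ⊓ M : Subgroup (R ⧸ O)) := by
      rw [← Subgroup.inf_subgroupOf_left]
      exact Nat.card_congr (Subgroup.subgroupOfEquivOfLe inf_le_left).toEquiv
    have e2 : Nat.card (N.subgroupOf M) = Nat.card (N ⊓ M : Subgroup (R ⧸ O)) := by
      rw [← Subgroup.inf_subgroupOf_right]
      exact Nat.card_congr (Subgroup.subgroupOfEquivOfLe inf_le_right).toEquiv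
    rw [e1, e2]
  rw [h7, ← h9, ← h8, h1, h3] at h6
  apply Nat.eq_of_mul_eq_mul_left h.prime.pos
  change r * ((Nat.card N / r) % r * N.index) = r * ((Nat.card (R ⧸ O) / r) % r)
  rw [← h6]
  ring

theorem index_eq (h : Top R r O N) (hc : ∀ a b : N, a * b = b * a) : N.index = E (Nat.card (R ⧸ O)) r := by
  have h1 := h.index_dvd_of_comm hc
  have h2 := h.card_of_comm hc
  have h3 : 0 < r - 1 := Nat.sub_pos_of_lt h.prime.one_lt
  have h4 := Nat.le_of_dvd h3 h1
  unfold E
  rw [← Subgroup.card_mul_index N, h2, Nat.mul_div_cancel_left _ h.prime.pos]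
  have := h.prime.one_lt
  exact (Nat.mod_eq_of_lt (by omega)).symm

/-- an element of order `r` acts on `O` without fixed points -/
theorem card_core_mod (h : Top R r O N) (hno : Isol R r) : Nat.card O % r = 1 := by
  have hr' : Fact r.Prime := ⟨h.prime⟩
  obtain ⟨x, hx⟩ := exists_prime_orderOf_dvd_card' (G := R) r h.dvdR
  have hp : IsPGroup r (zpowers x) := IsPGroup.of_card (n := 1) (by rw [Nat.card_zpowers, hx, pow_one])
  let _ : MulAction (zpowers x) O := MulAction.compHom O ((MulAut.conjNormal (H := O)).comp (zpowers x).subtype)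
  have h1 := hp.card_modEq_card_fixedPoints O
  have h2 : Nat.card (MulAction.fixedPoints (zpowers x) O) = 1 := by
    rw [Nat.card_eq_one_iff_unique]
    have key : ∀ o : O, o ∈ MulAction.fixedPoints (zpowers x) O → o = 1 := by
      intro o ho
      have h3 := ho ⟨x, mem_zpowers x⟩
      have h4 : x * (o : R) * x⁻¹ = o := congrArg Subtype.val h3
      by_contra hne
      have h5 : orderOf (o : R) ≠ 1 := by
        rw [Ne, orderOf_eq_one_iff]
        exact fun h6 => hne (Subtype.ext h6)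
      obtain ⟨p, hp, hpd⟩ := Nat.exists_prime_and_dvd h5
      have hpO : p ∣ Nat.card O := by
        have := _root_.orderOf_dvd_natCard o
        rw [← Subgroup.orderOf_coe] at this
        exact hpd.trans this
      have hrp : r ≠ p := by
        rintro rfl
        exact h.core hpO
      have h6 : orderOf ((o : R) ^ (orderOf (o : R) / p)) = p := by
        rw [orderOf_pow_of_dvd (Nat.div_pos (Nat.le_of_dvd (orderOf_pos _) hpd) hp.pos).ne' (Nat.div_dvd_of_dvd hpd),
          Nat.div_div_self hpd (orderOf_pos _).ne']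
      refine hno p hp hrp (x * (o : R) ^ (orderOf (o : R) / p))
        (orderOf_mul_of_comm h.prime hp hrp hx h6 ?_)
      have h7 : Commute x (o : R) := by
        change x * (o : R) = o * x
        calc x * (o : R) = (x * (o : R) * x⁻¹) * x := by group
          _ = o * x := by rw [h4]
      exact (h7.pow_right _).eq
    refine ⟨⟨fun a b => Subtype.ext ((key a a.2).trans (key b b.2).symm)⟩, ⟨⟨1, fun g => ?_⟩⟩⟩
    exact map_one (((MulAut.conjNormal (H := O)).comp (zpowers x).subtype) g)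
  rw [h2] at h1
  have h3 : Nat.card O % r = 1 % r := h1
  rw [h3, Nat.mod_eq_of_lt h.prime.one_lt]

theorem E_quot (h : Top R r O N) (hno : Isol R r) : E (Nat.card R) r = E (Nat.card (R ⧸ O)) r := by
  have h1 := card_core_mod h hno
  have h2 : r ∣ Nat.card (R ⧸ O) := h.dvd.trans (Subgroup.card_subgroup_dvd_card N)
  unfold E
  rw [← card_quot_mul O]
  obtain ⟨k, hk⟩ := h2
  rw [hk, mul_assoc, Nat.mul_div_cancel_left _ h.prime.pos, Nat.mul_div_cancel_left _ h.prime.pos, Nat.mul_mod, h1,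
    mul_one, Nat.mod_mod]

end

theorem Isol.sub {T : Type*} [Group T] {r : ℕ} (h : Isol T r) (R : Subgroup T) : Isol R r := by
  intro p hp hrp z
  rw [← Subgroup.orderOf_coe]
  exact h p hp hrp z

/-- `E |R| ∣ E |T|` -/
theorem E_dvd {T : Type*} [Group T] [Finite T] {r : ℕ} (hr : r.Prime) (hno : Isol T r) (h2 : ¬ r ^ 2 ∣ Nat.card T)
    (hne : Nat.card T ≠ r) (R : Subgroup T) (hd : r ∣ Nat.card R) : E (Nat.card R) r ∣ E (Nat.card T) r := by
  have hr' : Fact r.Prime := ⟨hr⟩
  by_cases hR : Nat.card R = r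
  · unfold E
    rw [hR, Nat.div_self hr.pos, Nat.mod_eq_of_lt hr.one_lt]
    exact one_dvd _
  obtain ⟨x, hx⟩ := exists_prime_orderOf_dvd_card' (G := R) r hd
  have hx' : orderOf (x : T) = r := by rw [Subgroup.orderOf_coe, hx]
  have hR2 : ¬ r ^ 2 ∣ Nat.card R := fun h => h2 (h.trans (Subgroup.card_subgroup_dvd_card R))
  obtain ⟨h3, -⟩ := card_norm_mod hr hR2 hR (card_cent_of_noOrd hr hR2 (hno.sub R) hx)
  obtain ⟨h4, -⟩ := card_norm_mod hr h2 hne (card_cent_of_noOrd hr h2 hno hx')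
  have h5 : Nat.card (normalizer ((zpowers x : Subgroup R) : Set R)) ∣
      Nat.card (normalizer ((zpowers (x : T) : Subgroup T) : Set T)) := by
    have hle : (normalizer ((zpowers x : Subgroup R) : Set R)).map R.subtype ≤
        normalizer ((zpowers (x : T) : Subgroup T) : Set T) := by
      rintro _ ⟨w, hw, rfl⟩
      rw [mem_normalizer_iff]
      have hmem : ∀ v : R, v ∈ zpowers x ↔ (v : T) ∈ zpowers (x : T) := by
        intro v
        rw [mem_zpowers_iff, mem_zpowers_iff]
        constructor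
        · rintro ⟨j, hj⟩
          exact ⟨j, congrArg Subtype.val hj⟩
        · rintro ⟨j, hj⟩
          exact ⟨j, Subtype.ext hj⟩
      have hsub : ∀ v ∈ zpowers (x : T), v ∈ R := by
        intro v hv
        obtain ⟨j, rfl⟩ := mem_zpowers_iff.1 hv
        exact zpow_mem x.2 j
      intro v
      constructor
      · intro hv
        have h6 := ((mem_normalizer_iff.1 hw) ⟨v, hsub v hv⟩).1 ((hmem _).2 hv)
        exact (hmem _).1 h6
      · intro hv
        have hvR : v ∈ R := by
          have h7 := mul_mem (mul_mem (inv_mem w.2) (hsub _ hv)) w.2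
          rwa [show ((w : T))⁻¹ * ((R.subtype w) * v * (R.subtype w)⁻¹) * (w : T) = v by
            change (w : T)⁻¹ * ((w : T) * v * (w : T)⁻¹) * (w : T) = v
            group] at h7
        exact (hmem ⟨v, hvR⟩).1 (((mem_normalizer_iff.1 hw) ⟨v, hvR⟩).2 ((hmem _).2 hv))
    have h6 := Subgroup.card_dvd_of_le hle
    rwa [Subgroup.card_map_of_injective R.subtype_injective] at h6
  rw [h3, h4] at h5
  exact Nat.dvd_of_mul_dvd_mul_left hr.pos h5

/-- the index of `N` for an isolated prime -/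
theorem index_dvd_E {T : Type*} [Group T] [Finite T] {r : ℕ} (hno : Isol T r) (h2 : ¬ r ^ 2 ∣ Nat.card T)
    (hne : Nat.card T ≠ r) {R : Subgroup T} {O : Subgroup R} [O.Normal] {N : Subgroup (R ⧸ O)} (h : _root_.Cfsg.Agent.H257.El.Top R r O N) :
    ((∀ a b : N, a * b = b * a) → N.index ∣ E (Nat.card T) r) ∧
      ((¬ ∀ a b : N, a * b = b * a) → E (Nat.card N) r * N.index ∣ E (Nat.card T) r) := by
  have h1 := E_dvd h.prime hno h2 hne R h.dvdR
  rw [E_quot h (hno.sub R)] at h1
  constructor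
  · intro hc
    rwa [index_eq h hc]
  · intro hc
    have hN : Nat.card N ≠ r := by
      intro h3
      apply hc
      have hr' : Fact r.Prime := ⟨h.prime⟩
      have hcy : IsCyclic N := isCyclic_of_prime_card h3
      intro a b
      exact (IsCyclic.commutative (α := N)).is_comm.comm a b
    rwa [index_mul_eq h (hno.sub R) hN]

end Cfsg.Agent.H257.Cov
end

-- part: H257/Cov/Tools
section
/-!
# S2499, sporadic groups: element orders without common proper overgroup (helper257)

* `OInc T m n` : no proper subgroup of `T` contains elements of order `m` and of order `n`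
* `noTwo_of_orders` : three pairwise incompatible orders
* `oinc_of_primes` : two primes `r`, `p` (no element of order `r p`, no possible simple group)
* `oinc_of_chkI` : `r` isolated (`Isol T r`, `isol_of_cent`), `m` arbitrary
* `oinc_of_chkN` : `r` a prime not adjacent to the primes dividing `m`
* `exists_image` : the general situation: the image of the element of order `m` in `R / O` has order `m`
-/

set_option autoImplicit false

namespace Cfsg.Agent.H257.Cov

open Subgroup
open Cfsg.Agent.OrdDiv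
open Cfsg.Agent.H278.Cov
open Cfsg.Agent.H257.El

universe u v

/-- no proper subgroup of `T` contains elements of order `m` and of order `n` -/
def OInc (T : Type u) [Group T] (m n : ℕ) : Prop :=
  ∀ R : Subgroup T, R ≠ ⊤ → ∀ x ∈ R, ∀ y ∈ R, orderOf x = m → orderOf y = n → False

section

variable {T : Type u} [Group T] {m n : ℕ}

theorem OInc.symm (h : OInc T m n) : OInc T n m := fun R hR x hx y hy h1 h2 => h R hR y hy x hx h2 h1

/-- multiples -/
theorem OInc.mul (h : OInc T m n) {m' n' : ℕ} (hm : m ∣ m') (hn : n ∣ n') (hm0 : m' ≠ 0) (hn0 : n' ≠ 0) :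
    OInc T m' n' := by
  intro R hR x hx y hy h1 h2
  obtain ⟨a, rfl⟩ := hm
  obtain ⟨b, rfl⟩ := hn
  have ha : a ≠ 0 := right_ne_zero_of_mul hm0
  have hb : b ≠ 0 := right_ne_zero_of_mul hn0
  have hm1 : 0 < m := Nat.pos_of_ne_zero (left_ne_zero_of_mul hm0)
  have hn1 : 0 < n := Nat.pos_of_ne_zero (left_ne_zero_of_mul hn0)
  refine h R hR (x ^ a) (R.pow_mem hx a) (y ^ b) (R.pow_mem hy b) ?_ ?_
  · rw [orderOf_pow_of_dvd ha (by rw [h1]; exact dvd_mul_left _ _), h1, Nat.mul_div_cancel _ (Nat.pos_of_ne_zero ha)]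
  · rw [orderOf_pow_of_dvd hb (by rw [h2]; exact dvd_mul_left _ _), h2, Nat.mul_div_cancel _ (Nat.pos_of_ne_zero hb)]

theorem OInc.inc (h : OInc T m n) {x y : T} (hx : orderOf x = m) (hy : orderOf y = n) : Inc x y := by
  intro H hH
  by_contra hc
  rw [not_or] at hc
  obtain ⟨g, hg⟩ := not_av hc.1
  obtain ⟨k, hk⟩ := not_av hc.2
  have ho : ∀ a z : T, orderOf (a * z * a⁻¹) = orderOf z := fun a z =>
    orderOf_injective (MulAut.conj a).toMonoidHom (MulAut.conj a).injective z
  exact h H hH _ hg _ hk ((ho g x).trans hx) ((ho k y).trans hy)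

/-- **three pairwise incompatible orders** -/
theorem noTwo_of_orders {a b c : ℕ} (ha : ∃ x : T, orderOf x = a) (hb : ∃ x : T, orderOf x = b)
    (hc : ∃ x : T, orderOf x = c) (hab : OInc T a b) (hbc : OInc T b c) (hac : OInc T a c) : NoTwo T := by
  obtain ⟨x, hx⟩ := ha
  obtain ⟨y, hy⟩ := hb
  obtain ⟨z, hz⟩ := hc
  exact noTwo_of_three (hab.inc hx hy) (hbc.inc hy hz) (hac.inc hx hz)

theorem OInc.congr {T' : Type v} [Group T'] (h : OInc T m n) (e : T ≃* T') : OInc T' m n := by
  intro R hR x hx y hy h1 h2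
  have ho : ∀ z : T', orderOf (e.symm z) = orderOf z := fun z =>
    orderOf_injective e.symm.toMonoidHom e.symm.injective z
  refine h (R.comap e.toMonoidHom) (fun ht => hR ?_) (e.symm x) ?_ (e.symm y) ?_ ((ho x).trans h1) ((ho y).trans h2)
  · rw [eq_top_iff]
    intro w _
    have h3 : e.symm w ∈ R.comap e.toMonoidHom := by rw [ht]; trivial
    have h4 : e (e.symm w) ∈ R := h3
    rwa [e.apply_symm_apply] at h4
  · change e (e.symm x) ∈ R
    rwa [e.apply_symm_apply]
  · change e (e.symm y) ∈ R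
    rwa [e.apply_symm_apply]

/-- a self-centralizing subgroup of order `r` -/
theorem isol_of_cent {r : ℕ} (hr : r.Prime)
    (hc : ∀ x : T, orderOf x = r → Nat.card (centralizer ({x} : Set T)) = r) : Isol T r := by
  intro p hp hrp z hz
  have h1 : orderOf (z ^ p) = r := by
    rw [orderOf_pow_of_dvd hp.ne_zero (by rw [hz]; exact dvd_mul_left _ _), hz, Nat.mul_div_cancel _ hp.pos]
  have h2 := hc _ h1
  have h3 : z ∈ centralizer ({z ^ p} : Set T) := by
    rw [mem_centralizer_singleton_iff]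
    rw [← pow_succ, ← pow_succ']
  have h4 := Subgroup.orderOf_dvd_natCard _ h3
  rw [h2, hz] at h4
  have h5 : p ∣ r := (dvd_mul_left _ _).trans h4
  exact hrp ((Nat.prime_dvd_prime_iff_eq hp hr).1 h5).symm

end

section

variable {T : Type u} [Group T] [Finite T]

theorem exists_of_prime_dvd {p : ℕ} (hp : p.Prime) (hd : p ∣ Nat.card T) : ∃ x : T, orderOf x = p := by
  have : Fact p.Prime := ⟨hp⟩
  exact exists_prime_orderOf_dvd_card' p hd

/-- two primes -/
theorem oinc_of_primes (tab : OrderTable.{u}) (known : Known.{u}) {n : ℕ} {l : List (ℕ × ℕ)} {r p : ℕ}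
    (hn : Nat.card T = n) (hr : r.Prime) (hp : p.Prime) (hno : ∀ z : T, orderOf z ≠ r * p)
    (hchk : chkF n l r p [] = true) : OInc T r p := by
  intro R hR x hx y hy h1 h2
  refine false_of_chk tab known hn hr hp hno (by simp) hchk hR ?_ ?_ (by simp only [_root_.List.not_mem_nil, _root_.IsEmpty.forall_iff, _root_.implies_true])
  · rw [← h1, ← Subgroup.orderOf_mk x hx]
    exact _root_.orderOf_dvd_natCard _
  · rw [← h2, ← Subgroup.orderOf_mk y hy]
    exact _root_.orderOf_dvd_natCard _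

/-! ### images -/

/-- the order of the image of an element whose order is prime to the order of the kernel -/
theorem orderOf_mk_quot {R : Type*} [Group R] [Finite R] (O : Subgroup R) [O.Normal] {y : R}
    (hs : ∀ s : ℕ, s.Prime → s ∣ orderOf y → ¬ s ∣ Nat.card O) :
    orderOf (QuotientGroup.mk' O y) = orderOf y := by
  have h1 : orderOf (QuotientGroup.mk' O y) ∣ orderOf y := orderOf_map_dvd _ _
  obtain ⟨k, hk⟩ := h1
  set j := orderOf (QuotientGroup.mk' O y) with hj
  have h2 : y ^ j ∈ O := by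
    rw [← QuotientGroup.eq_one_iff (N := O)]
    change QuotientGroup.mk' O (y ^ j) = 1
    rw [map_pow, hj, pow_orderOf_eq_one]
  have hj0 : j ≠ 0 := by
    rintro h0
    rw [h0, zero_mul] at hk
    exact (orderOf_pos y).ne' hk
  have h3 : orderOf (y ^ j) = k := by
    rw [orderOf_pow_of_dvd hj0 (Dvd.intro _ hk.symm), hk, Nat.mul_div_cancel_left _ (Nat.pos_of_ne_zero hj0)]
  have h4 : k ∣ Nat.card O := by
    rw [← h3, ← Subgroup.orderOf_mk _ h2]
    exact _root_.orderOf_dvd_natCard _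
  have h5 : k = 1 := by
    by_contra hne
    obtain ⟨s, hs1, hs2⟩ := Nat.exists_prime_and_dvd hne
    exact hs s hs1 (by rw [hk]; exact hs2.mul_left _) (hs2.trans h4)
  rw [h5, mul_one] at hk
  exact hk.symm

/-- an element of order prime to the index of a normal subgroup -/
theorem mem_of_coprime_index {Q : Type*} [Group Q] [Finite Q] (N : Subgroup Q) [N.Normal] {z : Q}
    (h : (orderOf z).Coprime N.index) : z ∈ N := by
  rw [← QuotientGroup.eq_one_iff (N := N)]
  change QuotientGroup.mk' N z = 1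
  rw [← orderOf_eq_one_iff]
  apply Nat.eq_one_of_dvd_coprimes h (orderOf_map_dvd _ _)
  rw [Subgroup.index]
  exact _root_.orderOf_dvd_natCard _

/-- the numeric condition on the primes of `m` -/
def okM (n : ℕ) (l : List (ℕ × ℕ)) (r m : ℕ) : Bool :=
  OrdDiv.valid l n && (n % r ^ 2 != 0) && (m % r != 0) && (l.all fun x => (m % x.1 != 0) || okPow l r x.1)

/-- **The general situation**: `R` a proper subgroup with elements of order `r` and `m`. -/
theorem exists_image (tab : OrderTable.{u}) (known : Known.{u}) {n : ℕ} {l : List (ℕ × ℕ)} {r m : ℕ}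
    (hn : Nat.card T = n) (hr : r.Prime) (hno : ∀ s : ℕ, s.Prime → s ∣ m → ∀ z : T, orderOf z ≠ r * s)
    (hchk : okM n l r m = true) {R : Subgroup T} (hR : R ≠ ⊤) (hrR : r ∣ Nat.card R) {y : T} (hy : y ∈ R)
    (hym : orderOf y = m) :
    SitP T n l r R ∧ ∃ (O : Subgroup R) (_ : O.Normal) (N : Subgroup (R ⧸ O)), _root_.Cfsg.Agent.H257.El.Top R r O N ∧
      (∀ s : ℕ, s.Prime → s ∣ m → ¬ s ∣ Nat.card O) ∧ ∃ z : R ⧸ O, orderOf z = m := by
  unfold okM at hchk
  simp only [Bool.and_eq_true] at hchk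
  obtain ⟨⟨⟨h1, h2⟩, h3⟩, h4⟩ := hchk
  have S : SitP T n l r R := sitP_of tab known hn h1 hr h2 hR hrR
  obtain ⟨O, hO, N, h⟩ := S.exists_top
  have hmR : m ∣ Nat.card R := by
    rw [← hym, ← Subgroup.orderOf_mk y hy]
    exact _root_.orderOf_dvd_natCard _
  have hcore : ∀ s : ℕ, s.Prime → s ∣ m → ¬ s ∣ Nat.card O := by
    intro s hs hsm
    have hrs : r ≠ s := by
      rintro rfl
      rw [Nat.mod_eq_zero_of_dvd hsm] at h3
      exact absurd h3 (by decide)
    have hsn : s ^ 1 ∣ n := by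
      rw [pow_one]
      exact (hsm.trans hmR).trans S.dvd_n
    obtain ⟨k, hk, -⟩ := exists_pair S.valid hs le_rfl hsn
    rw [List.all_eq_true] at h4
    have h5 := h4 _ hk
    simp only [Bool.or_eq_true, bne_iff_ne, ne_eq] at h5
    have h6 : okPow l r s = true := h5.resolve_left (fun h7 => h7 (Nat.mod_eq_zero_of_dvd hsm))
    exact h.not_dvd_core hs hrs (SitP.noR (hno s hs hsm)) (fun b hb hd => okPow_spec S.valid h6 hs hb
      (hd.trans S.dvd_n))
  refine ⟨S, O, hO, N, h, hcore, QuotientGroup.mk' O ⟨y, hy⟩, ?_⟩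
  have h7 : orderOf (⟨y, hy⟩ : R) = m := by rw [Subgroup.orderOf_mk, hym]
  rw [orderOf_mk_quot O (by rw [h7]; exact hcore), h7]

/-! ### isolated primes -/

/-- the check for `oinc_of_chkI` -/
def chkI (n : ℕ) (l : List (ℕ × ℕ)) (r m : ℕ) (ex : List Grp) : Bool :=
  okM n l r m && (n != r) && (E n r % m != 0) &&
    (surv n l r []).all fun g => (E n r % E (ordN g) r != 0) || ((ordN g * (E n r / E (ordN g) r)) % m != 0) ||
      (ex.contains g && Nat.gcd m (E n r / E (ordN g) r) == 1)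

/-- **an isolated prime `r` and an order `m`**; for the exceptional groups `ex` one has to know that they have no
element of order `m` -/
theorem oinc_of_chkI (tab : OrderTable.{u}) (known : Known.{u}) {n : ℕ} {l : List (ℕ × ℕ)} {r m : ℕ} (ex : List Grp)
    (hn : Nat.card T = n) (hr : r.Prime) (hiso : Isol T r) (hchk : chkI n l r m ex = true)
    (hex : ∀ g ∈ ex, ∀ (X : Type u) [Group X] [Finite X], Real g X → ∀ x : X, orderOf x ≠ m) : OInc T r m := by
  intro R hR x hx y hy hxr hym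
  unfold chkI at hchk
  simp only [Bool.and_eq_true] at hchk
  obtain ⟨⟨⟨h1, h2⟩, h3⟩, h4⟩ := hchk
  have hrR : r ∣ Nat.card R := by
    rw [← hxr, ← Subgroup.orderOf_mk x hx]
    exact _root_.orderOf_dvd_natCard _
  have hrm : ∀ s : ℕ, s.Prime → s ∣ m → r ≠ s := by
    rintro s - hsm rfl
    unfold okM at h1
    simp only [Bool.and_eq_true] at h1
    have h5 := h1.1.2
    rw [Nat.mod_eq_zero_of_dvd hsm] at h5
    exact absurd h5 (by decide)
  obtain ⟨S, O, hO, N, h, -, z, hz⟩ := exists_image tab known hn hr (fun s hs hsm => hiso s hs (hrm s hs hsm)) h1 hR hrR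
    hy hym
  have hsq : ¬ r ^ 2 ∣ Nat.card T := by rw [hn]; exact S.sq
  have hne : Nat.card T ≠ r := by rw [hn]; simpa using h2
  obtain ⟨i1, i2⟩ := index_dvd_E hiso hsq hne h
  rw [hn] at i1 i2
  have hN := h.normal
  have hmQ : m ∣ Nat.card N * N.index := by
    rw [Subgroup.card_mul_index, ← hz]
    exact _root_.orderOf_dvd_natCard _
  have hE0 : E n r ≠ 0 := by
    rintro h0
    rw [h0, Nat.zero_mod] at h3
    exact absurd h3 (by decide)
  by_cases hc : ∀ a b : N, a * b = b * a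
  · have h5 := i1 hc
    rw [h.card_of_comm hc] at hmQ
    have hcop : m.Coprime r := by
      rw [Nat.coprime_comm, Nat.Prime.coprime_iff_not_dvd hr]
      intro h6
      exact hrm r hr h6 rfl
    have h6 := (hcop.dvd_of_dvd_mul_left hmQ).trans h5
    rw [Nat.mod_eq_zero_of_dvd h6] at h3
    exact absurd h3 (by decide)
  · have h5 := i2 hc
    obtain ⟨g, hg, hreal, hgc⟩ := S.exists_surv h hc [] (by simp only [_root_.List.not_mem_nil, _root_.IsEmpty.forall_iff, _root_.implies_true])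
    rw [List.all_eq_true] at h4
    have h6 := h4 g hg
    rw [← hgc] at h6
    have he : E (Nat.card N) r ∣ E n r := (dvd_mul_right _ _).trans h5
    have he0 : 0 < E (Nat.card N) r := by
      rcases Nat.eq_zero_or_pos (E (Nat.card N) r) with h0 | h0
      · rw [h0, Nat.zero_dvd] at he
        exact absurd he hE0
      · exact h0
    have hi : N.index ∣ E n r / E (Nat.card N) r := by
      obtain ⟨c, hc'⟩ := h5
      rw [hc', mul_assoc, Nat.mul_div_cancel_left _ he0]
      exact dvd_mul_right _ _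
    simp only [Bool.or_eq_true, Bool.and_eq_true, bne_iff_ne, ne_eq, beq_iff_eq] at h6
    rcases h6 with (h6 | h6) | ⟨h6, h7⟩
    · exact h6 (Nat.mod_eq_zero_of_dvd he)
    · apply h6
      exact Nat.mod_eq_zero_of_dvd (hmQ.trans (Nat.mul_dvd_mul_left _ hi))
    · have hzN : z ∈ N := mem_of_coprime_index N (by
        rw [hz]
        exact Nat.Coprime.coprime_dvd_right hi h7)
      refine hex g (by simpa using h6) N hreal ⟨z, hzN⟩ ?_
      rw [Subgroup.orderOf_mk, hz]

/-! ### a prime not adjacent to the primes of `m` -/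

end

end Cfsg.Agent.H257.Cov
end
end
end
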